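import Cfsg.Agent.M12Cent.Pres
import Cfsg.Agent.Golay.Subgroups
import Cfsg.Agent.Golay.FusionCert

/-!
The Mathieu group of degree twelve satisfies the relations.
-/

set_option autoImplicit false
set_option linter.unusedSectionVars false
set_option linter.style.haveILetI false
set_option maxRecDepth 100000
set_option maxHeartbeats 1000000

namespace Cfsg.Lib.M12Cent

open Subgroup Cfsg.Lib.PermCert Cfsg.Lib.Golay

/-- words of the two-group part -/
def qW (a : Fin 32) : List PP := [qPerm.getD a.val (0, 0)]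
/-- words of the complement part -/
def sW (s : Fin 6) : List PP := [sPerm.getD s.val (0, 0)]
/-- word of a model element -/
def mW (x : M) : List PP := qW (qp x) ++ sW (sp x)
/-- word of the swap -/
def nW : List PP := [nPerm]
/-- word of the element of order three -/
def dW : List PP := [dPerm]

theorem perms_valid : (qPerm ++ sPerm ++ [nPerm, dPerm]).all (valid 24) = true ∧ qPerm.length = 32 ∧
    sPerm.length = 6 := by decide +kernel

theorem perms_sift : (qPerm ++ sPerm ++ [nPerm, dPerm]).all (fun g => sift 24 m12Chain [g]) = true := by decide +kernel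

theorem qW_hom : ∀ a b : Fin 32, FusionCert.same (qW a ++ qW b) (qW (qmul a b)) = true := by decide +kernel
theorem sW_hom : ∀ s t : Fin 6, FusionCert.same (sW s ++ sW t) (sW (smul6 s t)) = true := by decide +kernel
theorem sq_act : ∀ s : Fin 6, ∀ a : Fin 32, FusionCert.same (sW s ++ qW a) (qW (qact s a) ++ sW s) = true := by
  decide +kernel
theorem mW_faithful : ∀ x : M, x ≠ 1 → isId 24 (mW x) = false := by decide +kernel

theorem rel_nn : isId 24 (nW ++ nW) = true := by decide +kernel
theorem rel_nk : ∀ i : Fin 32, FusionCert.same (nW ++ mW (kel i) ++ nW) (mW (sw0 i)) = true := by decide +kernel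
theorem rel_ns : isId 24 (nW ++ mW s2 ++ nW ++ mW s2 ++ nW ++ mW s2) = true := by decide +kernel
theorem rel_d : isId 24 (dW ++ dW ++ dW) = true ∧ FusionCert.same (dW ++ mW mu) (mW mu ++ dW) = true ∧
    FusionCert.same (dW ++ mW c1) (mW c1 ++ dW) = true ∧ isId 24 (mW c3 ++ dW ++ mW c3 ++ dW) = true ∧
    FusionCert.same (mW c3 ++ dW ++ (nW ++ mW m0)) (nW ++ mW m0 ++ (mW c3 ++ dW)) = true ∧
    FusionCert.same (mW hh ++ dW) (dW ++ mW hh) = true := by decide +kernel

theorem valid_one {g : PP} (h : g ∈ qPerm ++ sPerm ++ [nPerm, dPerm]) : valid 24 g = true :=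
  List.all_eq_true.mp perms_valid.1 g h

theorem qW_mem (a : Fin 32) : qPerm.getD a.val (0, 0) ∈ qPerm ++ sPerm ++ [nPerm, dPerm] := by
  rw [List.getD_eq_getElem _ _ (perms_valid.2.1.symm ▸ a.isLt)]
  simp

theorem sW_mem (s : Fin 6) : sPerm.getD s.val (0, 0) ∈ qPerm ++ sPerm ++ [nPerm, dPerm] := by
  rw [List.getD_eq_getElem _ _ (perms_valid.2.2.symm ▸ s.isLt)]
  simp

/-- letters of the table -/
def OKW (w : List PP) : Prop := ∀ g ∈ w, g ∈ qPerm ++ sPerm ++ [nPerm, dPerm]

theorem okw_append {w v : List PP} (h : OKW w) (h' : OKW v) : OKW (w ++ v) := fun g hg =>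
  (List.mem_append.1 hg).elim (h g) (h' g)

theorem okw_valid {w : List PP} (h : OKW w) : ∀ g ∈ w, valid 24 g = true := fun g hg => valid_one (h g hg)

theorem wperm_append (w v : List PP) : wperm 24 (w ++ v) = wperm 24 w * wperm 24 v := by
  simp [wperm]

theorem okw_mem {w : List PP} (h : OKW w) : wperm 24 w ∈ grp 24 m12Chain := by
  induction w with
  | nil => simp
  | cons g w ih =>
    rw [wperm_cons]
    refine mul_mem ?_ (ih fun x hx => h x (List.mem_cons_of_mem _ hx))
    have := mem_grp_of_sift m12Chain_check (w := [g]) (by simpa using valid_one (h g List.mem_cons_self))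
      (List.all_eq_true.mp perms_sift g (h g List.mem_cons_self))
    simpa using this

theorem ok_qW (a : Fin 32) : OKW (qW a) := by simpa [OKW, qW] using qW_mem a
theorem ok_sW (s : Fin 6) : OKW (sW s) := by simpa [OKW, sW] using sW_mem s
theorem ok_mW (x : M) : OKW (mW x) := okw_append (ok_qW _) (ok_sW _)
theorem ok_nW : OKW nW := by intro g hg; simp [nW] at hg; simp [hg]
theorem ok_dW : OKW dW := by intro g hg; simp [dW] at hg; simp [hg]

/-- the group of tables -/
abbrev X12 : Subgroup (Equiv.Perm (Fin 24)) := grp 24 m12Chain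

theorem wperm_eq {w v : List PP} (hw : OKW w) (hv : OKW v) (h : FusionCert.same w v = true) :
    wperm 24 w = wperm 24 v :=
  FusionCert.same_sound (okw_valid hw) (okw_valid hv) h

theorem mW_mul (x y : M) : wperm 24 (mW (x * y)) = wperm 24 (mW x) * wperm 24 (mW y) := by
  have hq : ∀ a b, wperm 24 (qW a) * wperm 24 (qW b) = wperm 24 (qW (qmul a b)) := fun a b => by
    rw [← wperm_append]; exact wperm_eq (okw_append (ok_qW a) (ok_qW b)) (ok_qW _) (qW_hom a b)
  have hs : ∀ a b, wperm 24 (sW a) * wperm 24 (sW b) = wperm 24 (sW (smul6 a b)) := fun a b => by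
    rw [← wperm_append]; exact wperm_eq (okw_append (ok_sW a) (ok_sW b)) (ok_sW _) (sW_hom a b)
  have ha : ∀ s a, wperm 24 (sW s) * wperm 24 (qW a) = wperm 24 (qW (qact s a)) * wperm 24 (sW s) := fun s a => by
    rw [← wperm_append, ← wperm_append]
    exact wperm_eq (okw_append (ok_sW s) (ok_qW a)) (okw_append (ok_qW _) (ok_sW s)) (sq_act s a)
  have he : ∀ z, wperm 24 (mW z) = wperm 24 (qW (qp z)) * wperm 24 (sW (sp z)) := fun z => wperm_append _ _
  rw [he, he, he, show x * y = pr (qmul (qp x) (qact (sp x) (qp y))) (smul6 (sp x) (sp y)) from rfl,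
    (qp_pr _ _).1, (qp_pr _ _).2, ← hq, ← hs]
  calc wperm 24 (qW (qp x)) * wperm 24 (qW (qact (sp x) (qp y))) * (wperm 24 (sW (sp x)) * wperm 24 (sW (sp y)))
      = wperm 24 (qW (qp x)) * (wperm 24 (qW (qact (sp x) (qp y))) * wperm 24 (sW (sp x))) * wperm 24 (sW (sp y)) := by group
    _ = _ := by rw [← ha]; group

/-- the model inside the Mathieu group -/
def emb : M →* X12 := MonoidHom.mk' (fun x => ⟨wperm 24 (mW x), okw_mem (ok_mW x)⟩) fun x y => Subtype.ext (mW_mul x y)

theorem emb_val (x : M) : (emb x : Equiv.Perm (Fin 24)) = wperm 24 (mW x) := rfl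

theorem emb_inj : Function.Injective emb := by
  refine (injective_iff_map_eq_one _).2 fun x hx => ?_
  by_contra h
  have hf := mW_faithful x h
  have h1 : wperm 24 (mW x) = wperm 24 [] := by rw [← emb_val, hx]; rfl
  have h2 : isId 24 (mW x) = true := by
    refine List.all_eq_true.mpr fun i hi => beq_iff_eq.2 ?_
    have e := congrArg (fun σ : Equiv.Perm (Fin 24) => (σ ⟨i, List.mem_range.mp hi⟩ : ℕ)) h1
    simpa [wperm_apply (okw_valid (ok_mW x))] using e
  rw [h2] at hf
  exact Bool.noConfusion hf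

theorem x12_eq {a b : X12} {w v : List PP} (ha : (a : Equiv.Perm (Fin 24)) = wperm 24 w)
    (hb : (b : Equiv.Perm (Fin 24)) = wperm 24 v) (hw : OKW w) (hv : OKW v) (h : FusionCert.same w v = true) :
    a = b :=
  Subtype.ext (by rw [ha, hb]; exact wperm_eq hw hv h)

theorem x12_one {a : X12} {w : List PP} (ha : (a : Equiv.Perm (Fin 24)) = wperm 24 w) (hw : OKW w)
    (h : isId 24 w = true) : a = 1 :=
  Subtype.ext (by rw [ha, isId_sound (okw_valid hw) h]; rfl)

/-- the swap in the Mathieu group -/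
def n12 : X12 := ⟨wperm 24 nW, okw_mem ok_nW⟩
/-- the element of order three in the Mathieu group -/
def d12 : X12 := ⟨wperm 24 dW, okw_mem ok_dW⟩

theorem nn12 : n12 * n12 = 1 := x12_one (w := nW ++ nW) (by rw [wperm_append]; rfl) (okw_append ok_nW ok_nW) rel_nn

theorem d12_rels : d12 ^ 3 = 1 ∧ d12 * emb mu = emb mu * d12 ∧ d12 * emb c1 = emb c1 * d12 ∧
    emb c3 * d12 * emb c3 = d12⁻¹ ∧ emb c3 * d12 * (n12 * emb m0) = n12 * emb m0 * (emb c3 * d12) ∧
    emb hh * d12 * (emb hh)⁻¹ = d12 := by
  obtain ⟨r1, r2, r3, r4, r5, r6⟩ := rel_d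
  refine ⟨?_, ?_, ?_, ?_, ?_, ?_⟩
  · refine x12_one (w := dW ++ dW ++ dW) ?_ (okw_append (okw_append ok_dW ok_dW) ok_dW) r1
    rw [wperm_append, wperm_append, pow_succ, pow_two]; rfl
  · exact x12_eq (by rw [wperm_append]; rfl) (by rw [wperm_append]; rfl) (okw_append ok_dW (ok_mW _))
      (okw_append (ok_mW _) ok_dW) r2
  · exact x12_eq (by rw [wperm_append]; rfl) (by rw [wperm_append]; rfl) (okw_append ok_dW (ok_mW _))
      (okw_append (ok_mW _) ok_dW) r3
  · exact eq_inv_of_mul_eq_one_left (x12_one (by simp only [wperm_append]; rfl)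
      (okw_append (okw_append (okw_append (ok_mW _) ok_dW) (ok_mW _)) ok_dW) r4)
  · exact x12_eq (by simp only [wperm_append]; rfl) (by simp only [wperm_append]; rfl)
      (okw_append (okw_append (ok_mW _) ok_dW) (okw_append ok_nW (ok_mW _)))
      (okw_append (okw_append ok_nW (ok_mW _)) (okw_append (ok_mW _) ok_dW)) r5
  · rw [mul_inv_eq_iff_eq_mul]
    exact x12_eq (by rw [wperm_append]; rfl) (by rw [wperm_append]; rfl) (okw_append (ok_mW _) ok_dW)
      (okw_append ok_dW (ok_mW _)) r6

/-- the generators in the Mathieu group -/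
def gen12 : Gen X12 where
  ψ := emb
  n := n12
  d := d12
  nn := nn12
  nk := fun i => x12_eq (by simp only [wperm_append]; rfl) rfl (okw_append (okw_append ok_nW (ok_mW _)) ok_nW)
    (ok_mW _) (rel_nk i)
  ns := x12_one (w := nW ++ mW s2 ++ nW ++ mW s2 ++ nW ++ mW s2) (by
      simp only [wperm_append]; rw [pow_succ, pow_two]; simp only [Subgroup.coe_mul, mul_assoc]; rfl)
    (okw_append (okw_append (okw_append (okw_append (okw_append ok_nW (ok_mW _)) ok_nW) (ok_mW _)) ok_nW) (ok_mW _)) rel_ns
  dd := d12_rels.1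
  du := d12_rels.2.1
  da := d12_rels.2.2.1
  dc := d12_rels.2.2.2.1
  db := d12_rels.2.2.2.2.1

/-- the words of the letters -/
def letW (l : ℕ) : List PP :=
  [mW (M.mk gaC), mW (M.mk gaC)⁻¹, mW (M.mk gbC), mW (M.mk gbC)⁻¹, nW, dW, dW ++ dW].getD l []

/-- the word of a word of letters -/
def lWord (w : List ℕ) : List PP := w.flatMap letW

/-- words for the generators of the chain -/
def genWords : List (List ℕ) := [[2, 1, 2, 1, 2, 5, 4], [2, 6, 3, 0, 4, 2, 4], [6, 0, 5, 2, 6, 3],
  [5, 4, 3, 5, 1, 2, 6], [0, 6, 4, 6, 4, 1, 6], [2, 1, 2, 1], [3, 0, 3, 0]]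

/-- the word along the tree to a coset -/
def repWord : ℕ → ℕ → List ℕ
  | 0, _ => []
  | f + 1, c =>
    if fld logT.par logT.depth 20 c % 2 ^ 16 < c then
      repWord f (fld logT.par logT.depth 20 c % 2 ^ 16) ++ [fld logT.par logT.depth 20 c / 2 ^ 16]
    else []

theorem gens_words : (topGens m12Chain).length = 7 ∧ ∀ i : Fin 7,
    (genWords.getD i.val []).all (fun l => decide (l < 7)) = true ∧
    FusionCert.same [(topGens m12Chain).getD i.val (0, 0)] (lWord (genWords.getD i.val [])) = true := by decide +kernel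

theorem rows_not_central : rowsT.all (fun r => r.1 == 0 || !(FusionCert.same (mW tau ++ lWord (repWord (r.1 + 1) r.1))
    (lWord (repWord (r.1 + 1) r.1) ++ mW tau))) = true ∧
    rowsT.all (fun r => (repWord (r.1 + 1) r.1).all fun l => decide (l < 7)) = true := by decide +kernel

theorem ok_letW (l : ℕ) : OKW (letW l) := by
  rcases lt_or_ge l 7 with h | h
  · interval_cases l
    · exact ok_mW _
    · exact ok_mW _
    · exact ok_mW _
    · exact ok_mW _
    · exact ok_nW
    · exact ok_dW
    · exact okw_append ok_dW ok_dW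
  · intro g hg
    rw [letW, List.getD_eq_default _ _ (by simpa using h)] at hg
    simp at hg

theorem ok_lWord : ∀ w : List ℕ, OKW (lWord w)
  | [] => fun g hg => by simp [lWord] at hg
  | l :: w => by
    rw [lWord, List.flatMap_cons]
    exact okw_append (ok_letW l) (ok_lWord w)

theorem wperm_lWord : ∀ w : List ℕ, (∀ l ∈ w, l < 7) →
    wperm 24 (lWord w) = ((logT.wv gen12.im w : X12) : Equiv.Perm (Fin 24))
  | [], _ => by simp [lWord, Gen.wv_nil]
  | l :: w, h => by
    have hl := h l List.mem_cons_self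
    rw [lWord, List.flatMap_cons, wperm_append, Gen.wv_cons, Subgroup.coe_mul, ← lWord,
      wperm_lWord w (fun x hx => h x (List.mem_cons_of_mem _ hx)), Log.val, if_pos (show l < logT.ng from hl)]
    congr 1
    interval_cases l <;> try rfl
    show wperm 24 (dW ++ dW) = ((d12⁻¹ : X12) : Equiv.Perm (Fin 24))
    rw [wperm_append, ← eq_inv_of_mul_eq_one_left (show d12 * d12 * d12 = 1 by
      rw [← d12_rels.1, pow_succ, pow_two]), Subgroup.coe_mul]
    rfl

theorem rep_repWord : ∀ f c, c < f → logT.rep gen12.im c = logT.wv gen12.im (repWord f c)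
  | 0, c, h => absurd h (Nat.not_lt_zero c)
  | f + 1, c, h => by
    rw [repWord, Log.rep]
    by_cases hc : fld logT.par logT.depth 20 c % 2 ^ 16 < c
    · rw [dif_pos hc, if_pos hc, Gen.wv_append, ← rep_repWord f _ (by omega), Gen.wv_cons, Gen.wv_nil, mul_one]
    · rw [dif_neg hc, if_neg hc]
      rfl

theorem gen12_rels : ∀ r ∈ logT.rels, logT.wv gen12.im r = 1 := fun r hr =>
  gen12.rel_parts logT rfl (wlast := [6]) (by
    show emb hh * d12 * (emb hh)⁻¹ * logT.val gen12.im 6 = 1
    rw [d12_rels.2.2.2.2.2, Log.val, if_pos (by decide)]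
    exact mul_inv_cancel d12) r (rels_eq.1 ▸ (show r ∈ relsT from hr))

theorem gen12_top : gen12.L = ⊤ := by
  refine (eq_top_iff' _).2 fun x => ?_
  obtain ⟨x, hx⟩ := x
  induction hx using Subgroup.closure_induction with
  | mem g hg =>
    obtain ⟨s, hs, rfl⟩ := hg
    obtain ⟨i, hi, rfl⟩ := List.getElem_of_mem hs
    obtain ⟨hlt, hsame⟩ := gens_words.2 ⟨i, gens_words.1 ▸ hi⟩
    simp only [List.all_eq_true, decide_eq_true_eq] at hlt
    rw [List.getD_eq_getElem _ _ hi] at hsame
    have hmem : logT.wv gen12.im (genWords.getD i []) ∈ gen12.L := by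
      refine list_prod_mem fun y hy => ?_
      obtain ⟨l, hl, rfl⟩ := List.mem_map.1 hy
      rw [Log.val, if_pos (show l < logT.ng from hlt l hl)]
      exact subset_closure ⟨l, hlt l hl, rfl⟩
    convert hmem using 1
    refine Subtype.ext ?_
    rw [← wperm_lWord _ hlt]
    have := FusionCert.same_sound (w := [(topGens m12Chain)[i]]) (v := lWord (genWords.getD i []))
      (by simpa using (levelOK (by
        have := m12Chain_check
        simp only [m12Chain, check, Bool.and_eq_true] at this
        exact this.1)).gens_valid _ hs) (okw_valid (ok_lWord _)) hsame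
    simpa using this
  | one => exact one_mem gen12.L
  | mul a b ha hb iha ihb => exact gen12.L.mul_mem iha ihb
  | inv a ha iha => exact gen12.L.inv_mem iha

theorem centralizer_tau : centralizer ({emb tau} : Set X12) = emb.range := by
  refine le_antisymm (fun g hg => ?_) ?_
  · obtain ⟨hnc, hlt⟩ := rows_not_central
    simp only [List.all_eq_true, Bool.or_eq_true, beq_iff_eq, Bool.not_eq_true', decide_eq_true_eq] at hnc hlt
    have hS := gen12.sound_parts logT (Or.inl rfl) (le_refl gen12.ψ.range) gen12_rels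
    obtain ⟨c, hc, k, hk⟩ := hS.cover logT_ok logT_closed (g := g) (by
      show g ∈ gen12.L
      rw [gen12_top]; exact mem_top g)
    obtain ⟨r, hr, rfl⟩ := List.mem_map.1 hc
    have hge : g = emb k * logT.rep gen12.im r.1 := by
      rw [show emb k = g * (logT.rep gen12.im r.1)⁻¹ from hk, inv_mul_cancel_right]
    by_cases h0 : r.1 = 0
    · rw [hge, h0, Log.rep_zero, mul_one]
      exact ⟨k, rfl⟩
    exfalso
    have hrc : emb tau * logT.rep gen12.im r.1 = logT.rep gen12.im r.1 * emb tau := by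
      have hg' : g * emb tau = emb tau * g := mem_centralizer_singleton_iff.1 hg
      have hk' : (emb k)⁻¹ * emb tau = emb tau * (emb k)⁻¹ := by
        rw [← map_inv, ← map_mul, ← map_mul, tau_central]
      have e : logT.rep gen12.im r.1 = (emb k)⁻¹ * g := by rw [hge, inv_mul_cancel_left]
      rw [e, mul_assoc, hg', ← mul_assoc, ← mul_assoc, hk', mul_assoc]
    have hsame : FusionCert.same (mW tau ++ lWord (repWord (r.1 + 1) r.1))
        (lWord (repWord (r.1 + 1) r.1) ++ mW tau) = true := by
      refine FusionCert.same_of_eq (okw_valid (okw_append (ok_mW _) (ok_lWord _)))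
        (okw_valid (okw_append (ok_lWord _) (ok_mW _))) ?_
      rw [wperm_append, wperm_append, wperm_lWord _ (hlt r hr), ← rep_repWord _ _ (Nat.lt_succ_self r.1),
        ← emb_val, ← Subgroup.coe_mul, ← Subgroup.coe_mul, hrc]
    rw [(hnc r hr).resolve_left h0] at hsame
    exact Bool.noConfusion hsame
  · rintro _ ⟨x, rfl⟩
    rw [mem_centralizer_singleton_iff, ← map_mul, ← map_mul, tau_central]

theorem card_X12 : Nat.card X12 = 95040 := by
  rw [card_grp m12Chain_check]; decide +kernel

/-- the Mathieu group as the group of tables -/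
noncomputable def x12Equiv : X12 ≃* ↥Cfsg.Spor.M12 :=
  (permHom.subgroupMap X12).trans (MulEquiv.subgroupCongr M12_eq.symm)

theorem x12_simple : IsSimpleGroup X12 :=
  haveI := isSimple_M12
  haveI : Nontrivial X12 := x12Equiv.toEquiv.nontrivial
  IsSimpleGroup.isSimpleGroup_of_surjective x12Equiv.symm.toMonoidHom x12Equiv.symm.surjective

theorem two_central_conj {z : X12} (hz : Cfsg.IsTwoCentralInvolution z) : IsConj (emb tau) z := by
  classical
  haveI : Fact (Nat.Prime 2) := ⟨Nat.prime_two⟩
  obtain ⟨hz2, P, hzP, hzc⟩ := hz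
  set R := SM.map emb
  have hR : Nat.card R = 64 := by rw [Subgroup.card_map_of_injective emb_inj, card_SM]
  let P1 : Sylow 2 X12 := (IsPGroup.of_card (n := 6) (by rw [hR]; norm_num) : IsPGroup 2 R).toSylow (by
    have h := card_mul_index R
    rw [hR, card_X12] at h
    omega)
  obtain ⟨g, hg⟩ := MulAction.exists_smul_eq X12 P P1
  have key : ∀ x, x ∈ P ↔ g * x * g⁻¹ ∈ R := by
    intro x
    have e : R = ((g • P : Sylow 2 X12) : Subgroup X12) := by rw [hg]; rfl
    rw [e, Sylow.coe_subgroup_smul, Subgroup.mem_pointwise_smul_iff_inv_smul_mem]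
    simp [MulAut.smul_def, mul_assoc]
    rfl
  obtain ⟨m, hm, hmz⟩ := (key z).1 hzP
  have hmc : ∀ y : M, inS y = true → m * y = y * m := fun y hy => emb_inj (by
    have hp : g⁻¹ * emb y * g ∈ P := (key _).2 (by
      rw [show g * (g⁻¹ * emb y * g) * g⁻¹ = emb y by group]; exact ⟨y, hy, rfl⟩)
    have hc := hzc _ hp
    rw [map_mul, map_mul, hmz]
    calc g * z * g⁻¹ * emb y = g * (z * (g⁻¹ * emb y * g)) * g⁻¹ := by group
      _ = g * (g⁻¹ * emb y * g * z) * g⁻¹ := by rw [← hc]
      _ = _ := by group)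
  rcases center_SM m hmc with rfl | rfl
  · exfalso
    rw [map_one, eq_comm, conj_eq_one_iff] at hmz
    exact Cfsg.Lib.InvolCalc.ne_one_of_order_two hz2 hmz
  · refine isConj_iff.2 ⟨g⁻¹, ?_⟩
    rw [hmz]; group

end Cfsg.Lib.M12Cent
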