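import Cfsg.Agent.M12Cent.Concrete

/-!
Recognition of the Mathieu group of degree twelve by the centraliser of a central involution.
-/

set_option autoImplicit false
set_option linter.unusedSectionVars false
set_option linter.style.haveILetI false
set_option maxRecDepth 10000

namespace Cfsg.Lib.M12Cent

open Subgroup Cfsg.Lib.Golay

theorem center_model : ∀ x : M, (∀ y : M, x * y = y * x) → x = 1 ∨ x = tau := fun x h =>
  center_SM x fun y _ => h y

variable {G : Type*} [Group G] [Finite G]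

theorem exists_setting (hG : ¬ IsMulCommutative G) (u : ↥Cfsg.Spor.M12) (hu : Cfsg.IsTwoCentralInvolution u)
    (t : G) (ht : orderOf t = 2)
    (e : ↥(centralizer ({t} : Set G)) ≃* ↥(centralizer ({u} : Set ↥Cfsg.Spor.M12))) :
    ∃ S : Setting G, S.t = t := by
  haveI : Fact (Nat.Prime 2) := ⟨Nat.prime_two⟩
  obtain ⟨hu2, P, huP, huc⟩ := hu
  set z := x12Equiv.symm u with hzdef
  have hz : Cfsg.IsTwoCentralInvolution z := by
    refine ⟨by rw [hzdef, ← hu2]; exact MulEquiv.orderOf_eq x12Equiv.symm u,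
      P.mapSurjective (f := x12Equiv.symm.toMonoidHom) x12Equiv.symm.surjective, ⟨u, huP, rfl⟩, ?_⟩
    rintro _ ⟨x, hx, rfl⟩
    show x12Equiv.symm x * x12Equiv.symm u = x12Equiv.symm u * x12Equiv.symm x
    rw [← map_mul, ← map_mul, huc x hx]
  obtain ⟨g, hg⟩ := isConj_iff.1 (two_central_conj hz)
  have hug : x12Equiv (g * emb tau * g⁻¹) = u := by rw [hg, hzdef, MulEquiv.apply_symm_apply]
  have hmem : ∀ m : M, x12Equiv (g * emb m * g⁻¹) ∈ centralizer ({u} : Set ↥Cfsg.Spor.M12) := fun m => by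
    rw [mem_centralizer_singleton_iff, ← hug, ← map_mul, ← map_mul]
    congr 1
    calc g * emb m * g⁻¹ * (g * emb tau * g⁻¹) = g * (emb m * emb tau) * g⁻¹ := by group
      _ = g * (emb tau * emb m) * g⁻¹ := by rw [← map_mul, ← map_mul, tau_central]
      _ = _ := by group
  let f : M →* ↥(centralizer ({u} : Set ↥Cfsg.Spor.M12)) :=
    MonoidHom.codRestrict (x12Equiv.toMonoidHom.comp ((MulAut.conj g).toMonoidHom.comp emb)) _ hmem
  have hfinj : Function.Injective f := fun a b h => emb_inj ((MulAut.conj g).injective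
    (x12Equiv.injective (congrArg Subtype.val h)))
  have hfsurj : Function.Surjective f := by
    intro c
    have hc : g⁻¹ * x12Equiv.symm c.1 * g ∈ centralizer ({emb tau} : Set X12) := by
      rw [mem_centralizer_singleton_iff]
      have h1 : x12Equiv.symm c.1 * z = z * x12Equiv.symm c.1 := by
        rw [hzdef, ← map_mul, ← map_mul, mem_centralizer_singleton_iff.1 c.2]
      rw [show emb tau = g⁻¹ * z * g by rw [← hg]; group]
      calc g⁻¹ * x12Equiv.symm c.1 * g * (g⁻¹ * z * g) = g⁻¹ * (x12Equiv.symm c.1 * z) * g := by group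
        _ = g⁻¹ * (z * x12Equiv.symm c.1) * g := by rw [h1]
        _ = _ := by group
    rw [centralizer_tau] at hc
    obtain ⟨m, hm⟩ := hc
    refine ⟨m, Subtype.ext ?_⟩
    show x12Equiv (g * emb m * g⁻¹) = c.1
    rw [hm, show g * (g⁻¹ * x12Equiv.symm c.1 * g) * g⁻¹ = x12Equiv.symm c.1 by group, MulEquiv.apply_symm_apply]
  let φ : M →* G := (centralizer ({t} : Set G)).subtype.comp (e.symm.toMonoidHom.comp f)
  have hinj : Function.Injective φ := fun a b h => hfinj (e.symm.injective (Subtype.ext h))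
  have hrange : φ.range = centralizer {t} := by
    refine le_antisymm ?_ fun x hx => ?_
    · rintro _ ⟨m, rfl⟩; exact (e.symm (f m)).2
    · obtain ⟨m, hm⟩ := hfsurj (e ⟨x, hx⟩)
      refine ⟨m, ?_⟩
      show ((e.symm (f m) : centralizer ({t} : Set G)) : G) = x
      rw [hm, MulEquiv.symm_apply_apply]
  obtain ⟨m, hm⟩ : t ∈ φ.range := hrange ▸ mem_centralizer_singleton_iff.2 rfl
  have hmt : φ tau = t := by
    rcases center_model m (fun y => hinj (by
      rw [map_mul, map_mul, hm]
      exact (mem_centralizer_singleton_iff.1 (hrange ▸ ⟨y, rfl⟩ : φ y ∈ centralizer {t})).symm)) with rfl | rfl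
    · rw [map_one] at hm
      exact absurd hm.symm (Cfsg.Lib.InvolCalc.ne_one_of_order_two ht)
    · exact hm
  exact ⟨{ t := t, φ := φ, inj := hinj, range_eq := hrange, map_tau := hmt, noncomm := hG }, rfl⟩

namespace Sit

variable (W : Sit G)

theorem n_not_in_range {n : G} (hn : n * n = 1) (hspec : ∀ i, n * W.φ (kel i) * n = W.φ (sw0 i)) :
    n ∉ W.φ.range := by
  rintro ⟨m, hm⟩
  have hnt : n * W.t * n = W.φ a6 := by
    have := hspec (kidx tau)
    rwa [kel_tau, W.map_tau, d4_props.2.2.2.2.1] at this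
  rw [← hm, W.φ_comm, hm, mul_assoc, hn, mul_one, ← W.map_tau] at hnt
  exact rep_invol.2.2.1 (W.inj hnt).symm

include W in
theorem iso_M12 [Fact (W.cs = true)] : Nonempty (X12 ≃* G) := by
  obtain ⟨n, d, hn, hspec, hns, hd, hdu, hda, hdc, hdb, hdh⟩ := W.exists_gens
  have hnout := W.n_not_in_range hn hspec
  let B : Gen G := ⟨W.φ, n, d, hn, hspec, hns, hd, hdu, hda, hdc, hdb⟩
  rcases hdh with hdh | hdh
  swap
  · exact absurd (B.swap_in_range hdh) hnout
  obtain ⟨q1, q2, q3, q4, q5, q6⟩ := d12_rels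
  let A : Gen (X12 × G) :=
    { ψ := emb.prod W.φ
      n := (n12, n)
      d := (d12, d)
      nn := Prod.ext nn12 hn
      nk := fun i => Prod.ext (gen12.nk i) (hspec i)
      ns := Prod.ext gen12.ns hns
      dd := Prod.ext q1 hd
      du := Prod.ext q2 hdu
      da := Prod.ext q3 hda
      dc := Prod.ext q4 hdc
      db := Prod.ext q5 hdb }
  have hcard : Nat.card A.L ≤ 95040 := A.card_L (Prod.ext q6 hdh)
  let p : A.L →* X12 := (MonoidHom.fst X12 G).comp A.L.subtype
  have him : ∀ l, l < 7 → (A.im l).1 = gen12.im l := fun l hl => by interval_cases l <;> rfl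
  have hp : Function.Surjective p := by
    rw [← MonoidHom.range_eq_top, MonoidHom.range_comp, range_subtype, eq_top_iff, ← gen12_top, Gen.L, closure_le]
    rintro _ ⟨l, hl, rfl⟩
    exact ⟨A.im l, subset_closure ⟨l, hl, rfl⟩, him l hl⟩
  have hge : Nat.card X12 ≤ Nat.card A.L := Nat.card_le_card_of_surjective p hp
  rw [card_X12] at hge
  have hpb : Function.Bijective p :=
    (Nat.bijective_iff_surjective_and_card p).2 ⟨hp, by rw [card_X12]; omega⟩
  let q : X12 ≃* A.L := (MulEquiv.ofBijective p hpb).symm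
  let f : X12 →* G := (MonoidHom.snd X12 G).comp (A.L.subtype.comp q.toMonoidHom)
  have hfn : f n12 = n := by
    have hq : q n12 = ⟨(n12, n), subset_closure ⟨4, by norm_num, rfl⟩⟩ :=
      (MulEquiv.ofBijective p hpb).symm_apply_eq.2 rfl
    show (q n12 : X12 × G).2 = n
    rw [hq]
  have hfi : Function.Injective f := by
    haveI := x12_simple
    rw [← MonoidHom.ker_eq_bot_iff]
    refine (Subgroup.Normal.eq_bot_or_eq_top (H := f.ker) inferInstance).resolve_right fun h => ?_
    have : f n12 = 1 := MonoidHom.mem_ker.1 (h ▸ mem_top n12)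
    rw [hfn] at this
    exact hnout (this ▸ one_mem _)
  exact ⟨MulEquiv.ofBijective f
    ((Nat.bijective_iff_injective_and_card f).2 ⟨hfi, by rw [card_X12, W.card_Mx.2]⟩)⟩

end Sit

/-- Recognition by the centraliser of a central involution. -/
theorem iso_of_centralizer [IsSimpleGroup G] (hG : ¬ IsMulCommutative G) (u : ↥Cfsg.Spor.M12)
    (hu : Cfsg.IsTwoCentralInvolution u) (t : G) (ht : orderOf t = 2)
    (e : ↥(centralizer ({t} : Set G)) ≃* ↥(centralizer ({u} : Set ↥Cfsg.Spor.M12))) : Cfsg.Spor.IsoM12 G := by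
  obtain ⟨S, -⟩ := exists_setting hG u hu t ht e
  obtain ⟨W, -⟩ := S.exists_sit
  haveI : Fact (W.cs = true) := ⟨W.cs_true⟩
  obtain ⟨f⟩ := W.iso_M12
  exact ⟨f.symm.trans x12Equiv⟩

end Cfsg.Lib.M12Cent
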