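import Cfsg.Agent.M12Cent.Swaps
import Cfsg.Agent.LocalThree.HallJankoType.OrderFormula

/-!
The two classes of involutions and the pairs seen in the centraliser of the first one.
-/

set_option autoImplicit false
set_option linter.unusedSectionVars false
set_option maxRecDepth 10000

namespace Cfsg.Lib.M12Cent

open Subgroup Cfsg.Lib.HallJankoType

/-- labels of the first class -/
def isTB (cs : Bool) (m : M) : Bool := lab m == 1 || lab m == 2 || (cs && lab m == 4)

/-- labels of the second class -/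
def isUB (cs : Bool) (m : M) : Bool := lab m == 3 || (!cs && lab m == 4)

/-- the order of an element of the model -/
def ordM (w : M) : ℕ := ((List.range' 1 8).find? fun k => w ^ k == 1).getD 0

theorem ordM_spec : ∀ w : M, ordM w ≠ 0 ∧ w ^ ordM w = 1 ∧ ∀ k : Fin (ordM w), k.val ≠ 0 → w ^ k.val ≠ 1 := by
  decide +kernel

theorem ordM_eq (w : M) : orderOf w = ordM w := by
  obtain ⟨h0, h1, h2⟩ := ordM_spec w
  exact (orderOf_eq_iff (Nat.pos_of_ne_zero h0)).2 ⟨h1, fun k hk hk0 => h2 ⟨k, hk⟩ (Nat.pos_iff_ne_zero.1 hk0)⟩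

/-- the pairs whose dihedral group has centre `tau` -/
def tauPairs (cs : Bool) : Finset (M × M) :=
  ((Finset.univ.filter fun a => isTB cs a = true) ×ˢ (Finset.univ.filter fun b => isUB cs b = true)).filter
    fun p => (p.1 * p.2) ^ (ordM (p.1 * p.2) / 2) = tau

theorem tauPairs_card : (tauPairs true).card = 240 ∧ (tauPairs false).card = 48 := by decide +kernel

theorem lab_invol_iff : ∀ m : M, (m * m = 1 ∧ m ≠ 1) ↔ lab m ≠ 0 := by decide +kernel

theorem lab_le : ∀ m : M, lab m ≤ 4 := by decide +kernel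

theorem isUB_iff : ∀ cs : Bool, ∀ m : M, isUB cs m = true ↔ lab m ≠ 0 ∧ isTB cs m = false := by decide +kernel

theorem kel_f0_tau : kel (act f0C (kidx tau)) = a6 := by decide +kernel

theorem f0_fuses : ∃ i : Fin 32, lab (kel i) = 4 ∧ (lab (kel (act f0C i)) = 1 ∨ lab (kel (act f0C i)) = 2) := by
  decide +kernel

/-- the setting with the fusion pattern -/
structure Sit (G : Type*) [Group G] extends Setting G where
  /-- whether the class of length 24 fuses to the centre -/
  cs : Bool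
  tb : ∀ m : M, m * m = 1 → m ≠ 1 → (toSetting.IsT (φ m) ↔ isTB cs m = true)
  cls : ∀ x : G, orderOf x = 2 → toSetting.IsT x ∨ IsConj (φ mu) x
  sw : cs = true → toSetting.A f0C

variable {G : Type*} [Group G] [Finite G]

namespace Setting

variable (S : Setting G)

theorem rep_isT (h6 : S.IsT (S.φ a6)) {cs : Bool} (h24 : cs = true → S.IsT (S.φ a24))
    (h24' : cs = false → IsConj (S.φ a24) (S.φ a12)) (m : M) (h1 : m * m = 1) (h2 : m ≠ 1) :
    (S.IsT (S.φ m) ↔ isTB cs m = true) ∧ (S.IsT (S.φ m) ∨ IsConj (S.φ a12) (S.φ m)) := by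
  rcases lab_invol m h1 h2 with ⟨e, rfl⟩ | ⟨hl, -⟩
  · refine ⟨iff_of_true ?_ (by simp [isTB, e]), Or.inl ?_⟩ <;>
      · show IsConj S.t (S.φ tau); rw [S.map_tau]
  · have hc := S.label_conj m h1 h2
    have hn12 : IsConj (S.φ m) (S.φ a12) → ¬ S.IsT (S.φ m) := fun h => S.isT_ne_a12 h
    rcases hl with e | e | e <;> rw [e] at hc <;> simp only [repOf] at hc
    · exact ⟨iff_of_true (h6.trans hc.symm) (by simp [isTB, e]), Or.inl (h6.trans hc.symm)⟩
    · exact ⟨iff_of_false (hn12 hc) (by simp [isTB, e]), Or.inr hc.symm⟩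
    · cases cs
      · have := hc.trans (h24' rfl)
        exact ⟨iff_of_false (hn12 this) (by simp [isTB, e]), Or.inr this.symm⟩
      · exact ⟨iff_of_true ((h24 rfl).trans hc.symm) (by simp [isTB, e]), Or.inl ((h24 rfl).trans hc.symm)⟩

theorem cls_of {cs : Bool} (h : ∀ m : M, m * m = 1 → m ≠ 1 →
    (S.IsT (S.φ m) ↔ isTB cs m = true) ∧ (S.IsT (S.φ m) ∨ IsConj (S.φ a12) (S.φ m))) (x : G) (hx : orderOf x = 2) :
    S.IsT x ∨ IsConj (S.φ mu) x := by
  obtain ⟨g, m, hm, h1, h2⟩ := S.exists_conj_M hx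
  have hxm : IsConj x (S.φ m) := isConj_iff.2 ⟨g, hm⟩
  obtain ⟨u1, u2⟩ := lab_zero mu (by rw [lab_reps.2.2.2.2]; norm_num)
  have hu := S.label_conj mu u1 u2
  rw [lab_reps.2.2.2.2] at hu
  rcases (h m h1 h2).2 with e | e
  · exact Or.inl (e.trans hxm.symm)
  · exact Or.inr ((hu.trans e).trans hxm.symm)

theorem exists_sit_of (h6 : S.IsT (S.φ a6)) : ∃ W : Sit G, W.t = S.t := by
  rcases (S.a6_cases h6).imp_right (fun h => And.intro (S.isT_ne_a12 h) h) with ⟨S', ht, hA⟩ | ⟨h24, hc⟩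
  · obtain ⟨i, hi, hi'⟩ := f0_fuses
    have h6' : S'.IsT (S'.φ a6) := by
      obtain ⟨n, hn⟩ := hA
      refine isConj_iff.2 ⟨n, ?_⟩
      have ht := hn (kidx tau)
      rwa [kidx_tau, S'.map_tau, kel_f0_tau] at ht
    have h24 : S'.IsT (S'.φ a24) := by
      obtain ⟨n, hn⟩ := hA
      obtain ⟨x1, x2⟩ := lab_zero (kel i) (by omega)
      obtain ⟨y1, y2⟩ := lab_zero (kel (act f0C i)) (by omega)
      have l1 := S'.label_conj _ x1 x2
      have l2 := S'.label_conj _ y1 y2
      rw [hi] at l1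
      have h : IsConj (S'.φ a24) (S'.φ (repOf (lab (kel (act f0C i))))) :=
        (l1.symm.trans (isConj_iff.2 ⟨n, hn i⟩)).trans l2
      rcases hi' with e | e <;> rw [e] at h
      · show IsConj S'.t _
        rw [show repOf 1 = tau from rfl, S'.map_tau] at h
        exact h.symm
      · exact h6'.trans h.symm
    have h := S'.rep_isT h6' (cs := true) (fun _ => h24) (fun e => absurd e (by simp))
    exact ⟨{ toSetting := S', cs := true, tb := fun m a b => (h m a b).1, cls := S'.cls_of h, sw := fun _ => hA }, ht⟩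
  · have h := S.rep_isT h6 (cs := false) (fun e => absurd e (by simp)) (fun _ => hc)
    exact ⟨{ toSetting := S, cs := false, tb := fun m a b => (h m a b).1, cls := S.cls_of h,
             sw := fun e => absurd e (by simp) }, rfl⟩

theorem exists_sit [IsSimpleGroup G] : ∃ W : Sit G, W.t = S.t := S.exists_sit_of S.isT_a6

end Setting

namespace Sit

variable (W : Sit G)

/-- the second involution -/
def u : G := W.φ mu

theorem u_order : orderOf W.u = 2 := by
  obtain ⟨h1, h2⟩ := lab_zero mu (by rw [lab_reps.2.2.2.2]; norm_num)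
  exact W.order_φ h1 h2

theorem u_not_T : ¬ W.IsT W.u := fun h => by
  obtain ⟨h1, h2⟩ := lab_zero mu (by rw [lab_reps.2.2.2.2]; norm_num)
  have := (W.tb mu h1 h2).1 h
  simp [isTB, lab_reps.2.2.2.2] at this

theorem u_iff {x : G} (hx : orderOf x = 2) : IsConj W.u x ↔ ¬ W.IsT x :=
  ⟨fun h h' => W.u_not_T (h'.trans h.symm), fun h => (W.cls x hx).resolve_left h⟩

theorem ub {m : M} (h1 : m * m = 1) (h2 : m ≠ 1) : IsConj W.u (W.φ m) ↔ isUB W.cs m = true := by
  rw [W.u_iff (W.order_φ h1 h2), W.tb m h1 h2, isUB_iff, Bool.not_eq_true]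
  exact ⟨fun h => ⟨(lab_invol_iff m).1 ⟨h1, h2⟩, h⟩, fun h => h.2⟩

theorem not_conj : ¬ IsConj W.t W.u := W.u_not_T

theorem pair_commute {x y : G} (hx : orderOf x = 2) (hy : orderOf y = 2) (hne : ¬ IsConj x y) :
    Commute (pairInvol x y) x ∧ Commute (pairInvol x y) y := by
  exact (Cfsg.Lib.InvolCalc.central_spec hx hy (even_of_not_conj hx hy hne)).2

theorem card_tauPairs : Nat.card (PairSet W.t W.u W.t) = (tauPairs W.cs).card := by
  classical
  rw [← Fintype.card_coe, ← Nat.card_eq_fintype_card]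
  refine (Nat.card_congr (Equiv.ofBijective
    (fun p : {p // p ∈ tauPairs W.cs} => (⟨(W.φ p.1.1, W.φ p.1.2), ?_⟩ : PairSet W.t W.u W.t)) ⟨?_, ?_⟩)).symm
  · have hp := p.2
    simp only [tauPairs, Finset.mem_filter, Finset.mem_product, Finset.mem_univ, true_and] at hp
    obtain ⟨⟨ha, hb⟩, hab⟩ := hp
    have hla : lab p.1.1 ≠ 0 := fun e => by simp [isTB, e] at ha
    have hlb : lab p.1.2 ≠ 0 := ((isUB_iff _ _).1 hb).1
    obtain ⟨a1, a2⟩ := lab_zero _ hla
    obtain ⟨b1, b2⟩ := lab_zero _ hlb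
    refine ⟨(W.tb _ a1 a2).2 ha, (W.ub b1 b2).2 hb, ?_⟩
    show pairInvol (W.φ p.1.1) (W.φ p.1.2) = W.t
    rw [pairInvol, ← map_mul, orderOf_injective W.φ W.inj, ordM_eq, ← map_pow, hab, W.map_tau]
  · intro p q h
    simp only [Subtype.mk.injEq, Prod.mk.injEq] at h
    exact Subtype.ext (Prod.ext (W.inj h.1) (W.inj h.2))
  · rintro ⟨⟨x, y⟩, hx, hy, hp⟩
    have hxo : orderOf x = 2 := W.isT_order hx
    have hyo : orderOf y = 2 := order_two_of_conj W.u_order hy
    have hne : ¬ IsConj x y := fun e => W.not_conj ((hx.trans e).trans hy.symm)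
    obtain ⟨cx, cy⟩ := pair_commute hxo hyo hne
    obtain ⟨a, rfl⟩ := W.mem_iff.1 (show x * W.t = W.t * x from hp ▸ cx.eq.symm)
    obtain ⟨b, rfl⟩ := W.mem_iff.1 (show y * W.t = W.t * y from hp ▸ cy.eq.symm)
    obtain ⟨a1, a2⟩ := W.φ_invol hxo
    obtain ⟨b1, b2⟩ := W.φ_invol hyo
    refine ⟨⟨(a, b), ?_⟩, rfl⟩
    simp only [tauPairs, Finset.mem_filter, Finset.mem_product, Finset.mem_univ, true_and]
    refine ⟨⟨(W.tb a a1 a2).1 hx, (W.ub b1 b2).1 hy⟩, W.inj ?_⟩
    rw [map_pow, ← ordM_eq, ← orderOf_injective W.φ W.inj, map_mul, W.map_tau]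
    exact hp

end Sit

end Cfsg.Lib.M12Cent
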