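import Cfsg.Agent.M12Cent.SwapFacts
import Cfsg.Agent.AltEightType.Core

/-!
Fusion of involutions in a simple group with the centraliser of a central involution of `M₁₂`.
-/

set_option autoImplicit false
set_option linter.unusedSectionVars false
set_option linter.style.haveILetI false
set_option maxRecDepth 10000

namespace Cfsg.Lib.M12Cent

open Subgroup

/-- membership in the Sylow subgroup of the model -/
def inS (x : M) : Bool := inMask smMask x

theorem inS_closed : inS 1 = true ∧ (∀ x : M, inS x = true → ∀ y : M, inS y = true → inS (x * y) = true) ∧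
    ∀ x : M, inS x = true → inS x⁻¹ = true := by decide +kernel

/-- the Sylow subgroup of the model -/
def SM : Subgroup M where
  carrier := {x | inS x = true}
  one_mem' := inS_closed.1
  mul_mem' := fun {x y} hx hy => inS_closed.2.1 x hx y hy
  inv_mem' := fun {x} hx => inS_closed.2.2 x hx

theorem card_SM : Nat.card SM = 64 := by
  show Nat.card {x : M // inS x = true} = 64
  rw [Nat.card_eq_fintype_card]
  decide +kernel

theorem center_SM : ∀ x : M, (∀ y : M, inS y = true → x * y = y * x) → x = 1 ∨ x = tau := by decide +kernel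

theorem tau_in_S : inS tau = true := by decide +kernel

/-- the centraliser of an element in the model -/
abbrev centM (r : M) : Type := {m : M // m * r = r * m}

theorem cent_cards : Fintype.card (centM a6) = 32 ∧ Fintype.card (centM a12) = 16 ∧ Fintype.card (centM a24) = 8 := by
  decide +kernel

theorem rep_invol : a6 * a6 = 1 ∧ a6 ≠ 1 ∧ a6 ≠ tau ∧ a12 * a12 = 1 ∧ a12 ≠ 1 ∧ a24 * a24 = 1 ∧ a24 ≠ 1 := by
  decide +kernel

theorem kg12 : kGens12.map M.mk = [tau, a12, M.mk (kGens12.getD 2 0), M.mk (kGens12.getD 3 0)] := by decide +kernel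
theorem kg24 : kGens24.map M.mk = [tau, a24, M.mk (kGens24.getD 2 0)] := by decide +kernel
theorem kg6 : kGens6.map M.mk = [tau, a6, M.mk (kGens6.getD 2 0), M.mk (kGens6.getD 3 0), M.mk (kGens6.getD 4 0)] := by
  decide +kernel

theorem kgens_cent : (∀ x ∈ kGens12.map M.mk, x * a12 = a12 * x) ∧ (∀ x ∈ kGens24.map M.mk, x * a24 = a24 * x) ∧
    (∀ x ∈ kGens6.map M.mk, x * a6 = a6 * x) := by decide +kernel

theorem kWords6_len : kWords6.length = 32 ∧ kWords12.length = 16 ∧ kWords24.length = 8 ∧ kList6.length = 32 ∧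
    kList12.length = 16 ∧ kList24.length = 8 := by decide +kernel

theorem kidx_tau : kel (kidx tau) = tau := kel_kidx (by decide +kernel)

theorem twist_in : ∀ i : Fin 32, inK (alphaInv (kel i)) = true := by decide +kernel

/-- the hypothesis -/
structure Setting (G : Type*) [Group G] where
  /-- the involution -/
  t : G
  /-- the centraliser -/
  φ : M →* G
  inj : Function.Injective φ
  range_eq : φ.range = centralizer {t}
  map_tau : φ tau = t
  noncomm : ¬ IsMulCommutative G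

variable {G : Type*} [Group G] [Finite G]

namespace Setting

variable (S : Setting G)

theorem mem_iff {x : G} : x * S.t = S.t * x ↔ ∃ m, S.φ m = x := by
  have h : x ∈ S.φ.range ↔ ∃ m, S.φ m = x := Iff.rfl
  rw [← h, S.range_eq, mem_centralizer_singleton_iff]

theorem φ_comm (m : M) : S.φ m * S.t = S.t * S.φ m := by
  rw [← S.map_tau, ← map_mul, ← map_mul, tau_central]

theorem order_φ {m : M} (h1 : m * m = 1) (h2 : m ≠ 1) : orderOf (S.φ m) = 2 :=
  Cfsg.Lib.InvolCalc.order_two_of_mul_self (by rw [← map_mul, h1, map_one])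
    fun e => h2 (S.inj (e.trans (map_one _).symm))

theorem t_order : orderOf S.t = 2 := S.map_tau ▸ S.order_φ tau_sq.1 tau_sq.2

theorem φ_invol {m : M} (hm : orderOf (S.φ m) = 2) : m * m = 1 ∧ m ≠ 1 :=
  ⟨S.inj (by rw [map_mul, map_one]; exact Cfsg.Lib.InvolCalc.sq_of_order_two hm),
    fun h => Cfsg.Lib.InvolCalc.ne_one_of_order_two hm (by rw [h, map_one])⟩

/-- conjugate to the involution -/
def IsT (x : G) : Prop := IsConj S.t x

theorem isT_order {x : G} (h : S.IsT x) : orderOf x = 2 := by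
  obtain ⟨g, rfl⟩ := isConj_iff.1 h
  rw [← S.t_order]; exact MulEquiv.orderOf_eq (MulAut.conj g) S.t

/-- the image of the Sylow subgroup -/
def SG : Subgroup G := SM.map S.φ

theorem SG_maximal {P : Subgroup G} (hP : IsPGroup 2 P) (hle : S.SG ≤ P) : P = S.SG := by
  haveI : Fact (Nat.Prime 2) := ⟨Nat.prime_two⟩
  have htS : S.t ∈ S.SG := ⟨tau, tau_in_S, S.map_tau⟩
  have hne : Nontrivial P := ⟨⟨⟨S.t, hle htS⟩, 1, fun h =>
    Cfsg.Lib.InvolCalc.ne_one_of_order_two S.t_order (congrArg Subtype.val h)⟩⟩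
  obtain ⟨z, hz, hz1⟩ := (nontrivial_iff_exists_ne_one _).1 hP.center_nontrivial
  have hzc : ∀ x ∈ P, (z : G) * x = x * z := fun x hx => (congrArg Subtype.val (mem_center_iff.1 hz ⟨x, hx⟩)).symm
  obtain ⟨m, hm⟩ := S.mem_iff.1 (hzc _ (hle htS))
  have hcm : ∀ y, inS y = true → m * y = y * m := fun y hy => S.inj (by
    rw [map_mul, map_mul, hm]; exact hzc _ (hle ⟨y, hy, rfl⟩))
  have hPc : P ≤ centralizer {S.t} := by
    rcases center_SM m hcm with rfl | rfl
    · exact absurd (Subtype.ext (hm.symm.trans (map_one S.φ))) hz1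
    · intro x hx
      rw [mem_centralizer_singleton_iff, ← S.map_tau, hm]
      exact (hzc x hx).symm
  rw [← S.range_eq] at hPc
  have hsm : SM ≤ P.comap S.φ := fun y hy => hle ⟨y, hy, rfl⟩
  obtain ⟨k, hk⟩ := IsPGroup.iff_card.1 (hP.comap_of_injective S.φ S.inj)
  have hdvd : 2 ^ k ∣ 192 := hk ▸ card_M ▸ Subgroup.card_subgroup_dvd_card _
  have hk6 : k ≤ 6 := by
    have h' := (Nat.Coprime.pow_left k (by decide : Nat.Coprime 2 3)).dvd_of_dvd_mul_right
      (by norm_num; exact hdvd : 2 ^ k ∣ 2 ^ 6 * 3)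
    exact (Nat.pow_dvd_pow_iff_le_right (by norm_num)).1 h'
  have heq : SM = P.comap S.φ := Subgroup.eq_of_le_of_card_ge hsm (by
    rw [hk, card_SM]; exact (Nat.pow_le_pow_right (by norm_num) hk6).trans (by norm_num))
  rw [SG, heq, Subgroup.map_comap_eq_self hPc]

/-- the Sylow subgroup -/
def PS : Sylow 2 G :=
  { toSubgroup := S.SG
    isPGroup' := (IsPGroup.of_card (G := SM) (n := 6) (by rw [card_SM]; norm_num)).map S.φ
    is_maximal' := fun hQ hle => S.SG_maximal hQ hle }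

theorem exists_conj_M {x : G} (hx : orderOf x = 2) : ∃ (g : G) (m : M), g * x * g⁻¹ = S.φ m ∧ m * m = 1 ∧ m ≠ 1 := by
  haveI : Fact (Nat.Prime 2) := ⟨Nat.prime_two⟩
  have hK : IsPGroup 2 (zpowers x) := IsPGroup.of_card (n := 1) (by rw [Nat.card_zpowers, hx, pow_one])
  obtain ⟨P, hP⟩ := hK.exists_le_sylow
  obtain ⟨g, hg⟩ := MulAction.exists_smul_eq G P S.PS
  have h' : g * x * g⁻¹ ∈ S.SG := by
    have e : S.SG = ((g • P : Sylow 2 G) : Subgroup G) := by rw [hg]; rfl
    rw [e, Sylow.coe_subgroup_smul, Subgroup.mem_pointwise_smul_iff_inv_smul_mem]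
    simpa [MulAut.smul_def, mul_assoc] using hP (mem_zpowers x)
  obtain ⟨m, -, hm⟩ := Subgroup.mem_map.1 h'
  have ho : orderOf (S.φ m) = 2 := by rw [hm, ← hx]; exact MulEquiv.orderOf_eq (MulAut.conj g) x
  exact ⟨g, m, hm.symm, S.φ_invol ho⟩

theorem label_conj (m : M) (h1 : m * m = 1) (h2 : m ≠ 1) : IsConj (S.φ m) (S.φ (repOf (lab m))) := by
  rcases lab_invol m h1 h2 with ⟨e, rfl⟩ | ⟨-, e⟩
  · rw [lab_reps.2.2.2.1]; exact IsConj.refl _
  · exact isConj_iff.2 ⟨S.φ (cw m), by rw [← e, map_mul, map_mul, map_inv]⟩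

theorem exists_other [IsSimpleGroup G] :
    ∃ m : M, m * m = 1 ∧ m ≠ 1 ∧ m ≠ tau ∧ S.IsT (S.φ m) := by
  by_contra hno
  push Not at hno
  have hiso : ∀ g ∈ (⊤ : Subgroup G), Commute S.t (g * S.t * g⁻¹) → g * S.t * g⁻¹ = S.t := by
    intro g _ hc
    obtain ⟨m, hm⟩ := S.mem_iff.1 hc.symm.eq
    have ho : orderOf (S.φ m) = 2 := by rw [hm, ← S.t_order]; exact MulEquiv.orderOf_eq (MulAut.conj g) S.t
    obtain ⟨h1, h2⟩ := S.φ_invol ho
    by_cases e : m = tau
    · rw [← hm, e, S.map_tau]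
    · exact absurd (hm.symm ▸ isConj_iff.2 ⟨g, rfl⟩) (hno m h1 h2 e)
  set N := Cfsg.Lib.AltEightType.core (⊤ : Subgroup G) with hN
  haveI hNn : N.Normal := ⟨fun x hx g =>
    (mem_normalizer_iff.1 (Cfsg.Lib.AltEightType.core_normalized (mem_top g)) x).1 hx⟩
  have hodd := Cfsg.Lib.AltEightType.odd_core (⊤ : Subgroup G)
  rcases Subgroup.Normal.eq_bot_or_eq_top (H := N) inferInstance with hb | hb
  · have hz : S.t ∈ center G := by
      refine mem_center_iff.2 fun g => ?_
      obtain ⟨k, hk, hk'⟩ := Cfsg.Lib.AltEightType.isolated_of_commuting (mem_top S.t) S.t_order hiso (mem_top g)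
      rw [show k = 1 from mem_bot.1 (hb ▸ hk : k ∈ (⊥ : Subgroup G)), inv_one, one_mul] at hk'
      exact mem_centralizer_singleton_iff.1 hk'
    rcases Subgroup.Normal.eq_bot_or_eq_top (H := center G) inferInstance with hc | hc
    · exact Cfsg.Lib.InvolCalc.ne_one_of_order_two S.t_order (mem_bot.1 (hc ▸ hz))
    · exact S.noncomm ⟨⟨fun a b => (mem_center_iff.1 (hc ▸ mem_top b : b ∈ center G) a)⟩⟩
  · exact Cfsg.Lib.InvolCalc.ne_one_of_order_two S.t_order
      (Cfsg.Lib.AltEightType.eq_one_of_odd_two hodd (hb ▸ mem_top S.t : S.t ∈ N)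
        (Cfsg.Lib.InvolCalc.sq_of_order_two S.t_order))

/-- an element exchanging the involution and a representative -/
def Swap (r : M) (g : G) : Prop := g * S.t * g⁻¹ = S.φ r ∧ g * S.φ r * g⁻¹ = S.t

theorem card_cent_of_pair {r s : M} {g : G} (h1 : g * S.t * g⁻¹ = S.φ r) (h2 : g * S.φ s * g⁻¹ = S.t) :
    Fintype.card (centM s) = Fintype.card (centM r) := by
  have hfw : ∀ m : centM s, ∃ k : centM r, S.φ k.1 = g * S.φ m.1 * g⁻¹ := fun m => by
    obtain ⟨k, hk⟩ := (S.mem_iff (x := g * S.φ m.1 * g⁻¹)).1 (by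
      rw [← h2]
      calc g * S.φ m.1 * g⁻¹ * (g * S.φ s * g⁻¹) = g * (S.φ m.1 * S.φ s) * g⁻¹ := by group
        _ = g * (S.φ s * S.φ m.1) * g⁻¹ := by rw [← map_mul, m.2, map_mul]
        _ = _ := by group)
    refine ⟨⟨k, S.inj ?_⟩, hk⟩
    rw [map_mul, map_mul, hk, ← h1]
    calc g * S.φ m.1 * g⁻¹ * (g * S.t * g⁻¹) = g * (S.φ m.1 * S.t) * g⁻¹ := by group
      _ = g * (S.t * S.φ m.1) * g⁻¹ := by rw [S.φ_comm]
      _ = _ := by group
  have hbw : ∀ k : centM r, ∃ m : centM s, S.φ m.1 = g⁻¹ * S.φ k.1 * g := fun k => by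
    have hr : g⁻¹ * S.φ r * g = S.t := by rw [← h1]; group
    have ht : g⁻¹ * S.t * g = S.φ s := by rw [← h2]; group
    obtain ⟨m, hm⟩ := (S.mem_iff (x := g⁻¹ * S.φ k.1 * g)).1 (by
      rw [← hr]
      calc g⁻¹ * S.φ k.1 * g * (g⁻¹ * S.φ r * g) = g⁻¹ * (S.φ k.1 * S.φ r) * g := by group
        _ = g⁻¹ * (S.φ r * S.φ k.1) * g := by rw [← map_mul, k.2, map_mul]
        _ = _ := by group)
    refine ⟨⟨m, S.inj ?_⟩, hm⟩
    rw [map_mul, map_mul, hm, ← ht]
    calc g⁻¹ * S.φ k.1 * g * (g⁻¹ * S.t * g) = g⁻¹ * (S.φ k.1 * S.t) * g := by group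
      _ = g⁻¹ * (S.t * S.φ k.1) * g := by rw [S.φ_comm]
      _ = _ := by group
  choose f hf using hfw
  choose f' hf' using hbw
  refine Fintype.card_congr ⟨f, f', fun m => Subtype.ext (S.inj ?_), fun k => Subtype.ext (S.inj ?_)⟩
  · rw [hf', hf]; group
  · rw [hf, hf']; group

theorem exists_swap {r : M} (hr : r = a6 ∨ r = a12 ∨ r = a24) (hT : S.IsT (S.φ r)) : ∃ g, S.Swap r g := by
  obtain ⟨g, hg⟩ := isConj_iff.1 hT
  have hrt : S.φ r * S.t = S.t * S.φ r := S.φ_comm r
  obtain ⟨s, hs⟩ := (S.mem_iff (x := g⁻¹ * S.t * g)).1 (by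
    have e : g⁻¹ * S.φ r * g = S.t := by rw [← hg]; group
    calc g⁻¹ * S.t * g * S.t = g⁻¹ * S.t * g * (g⁻¹ * S.φ r * g) := by rw [e]
      _ = g⁻¹ * (S.t * S.φ r) * g := by group
      _ = g⁻¹ * (S.φ r * S.t) * g := by rw [hrt]
      _ = g⁻¹ * S.φ r * g * (g⁻¹ * S.t * g) := by group
      _ = S.t * (g⁻¹ * S.t * g) := by rw [e])
  have h2 : g * S.φ s * g⁻¹ = S.t := by rw [hs]; group
  have ho : orderOf (S.φ s) = 2 := by
    rw [← S.t_order, ← h2]; exact (MulEquiv.orderOf_eq (MulAut.conj g) _).symm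
  obtain ⟨s1, s2⟩ := S.φ_invol ho
  have hne : s ≠ tau := fun e => by
    rw [e, S.map_tau] at h2
    have := S.inj ((h2.symm.trans hg).symm.trans S.map_tau.symm)
    obtain ⟨-, -, h6, -⟩ := rep_invol
    rcases hr with rfl | rfl | rfl
    · exact h6 this
    · have := lab_reps.2.1; rw [‹a12 = tau›, lab_reps.2.2.2.1] at this; omega
    · have := lab_reps.2.2.1; rw [‹a24 = tau›, lab_reps.2.2.2.1] at this; omega
  obtain ⟨hl, hconj⟩ := (lab_invol s s1 s2).resolve_left fun e => hne e.2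
  have hk : ∀ s' : M, cw s * s * (cw s)⁻¹ = s' → Fintype.card (centM s) = Fintype.card (centM s') := by
    rintro _ rfl
    refine Fintype.card_congr ((MulAut.conj (cw s)).toEquiv.subtypeEquiv fun m => ?_)
    show m * s = s * m ↔ _
    simp only [MulEquiv.toEquiv_eq_coe, EquivLike.coe_coe, MulAut.conj_apply]
    simp [mul_assoc]
    rw [← mul_assoc, ← mul_assoc, mul_left_inj]
  have hrep : repOf (lab s) = r := by
    have hc := (hk _ hconj).symm.trans (S.card_cent_of_pair hg h2)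
    obtain ⟨c6, c12, c24⟩ := cent_cards
    rcases hl with e | e | e <;> rw [e] at hc ⊢ <;> rcases hr with rfl | rfl | rfl <;>
      simp [repOf] at hc ⊢ <;> omega
  refine ⟨g * (S.φ (cw s))⁻¹, ?_, ?_⟩
  · calc g * (S.φ (cw s))⁻¹ * S.t * (g * (S.φ (cw s))⁻¹)⁻¹
        = g * ((S.φ (cw s))⁻¹ * (S.t * S.φ (cw s))) * g⁻¹ := by group
      _ = S.φ r := by rw [← S.φ_comm, inv_mul_cancel_left, hg]
  · rw [← hrep, ← hconj, map_mul, map_mul, map_inv]
    calc _ = g * S.φ s * g⁻¹ := by group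
      _ = S.t := h2

theorem swap_images {r : M} {g : G} (hg : S.Swap r g) {gs : List M} (hgs : ∀ x ∈ gs, x * r = r * x) :
    ∃ f : M → M, (∀ x, x * r = r * x → f x * r = r * f x ∧ S.φ (f x) = g * S.φ x * g⁻¹) ∧
      f tau = r ∧ f r = tau ∧ ∀ w : List ℕ, S.φ (evW (gs.map f) w) = g * S.φ (evW gs w) * g⁻¹ := by
  classical
  have hall : ∀ x : M, ∃ y : M, x * r = r * x → y * r = r * y ∧ S.φ y = g * S.φ x * g⁻¹ := fun x => by
    by_cases hx : x * r = r * x
    swap
    · exact ⟨1, fun h => absurd h hx⟩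
    obtain ⟨y, hy⟩ := (S.mem_iff (x := g * S.φ x * g⁻¹)).1 (by
      rw [← hg.2]
      calc g * S.φ x * g⁻¹ * (g * S.φ r * g⁻¹) = g * (S.φ x * S.φ r) * g⁻¹ := by group
        _ = g * (S.φ r * S.φ x) * g⁻¹ := by rw [← map_mul, hx, map_mul]
        _ = _ := by group)
    refine ⟨y, fun _ => ⟨S.inj ?_, hy⟩⟩
    rw [map_mul, map_mul, hy, ← hg.1]
    calc g * S.φ x * g⁻¹ * (g * S.t * g⁻¹) = g * (S.φ x * S.t) * g⁻¹ := by group
      _ = g * (S.t * S.φ x) * g⁻¹ := by rw [S.φ_comm]
      _ = _ := by group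
  choose f hf using hall
  refine ⟨f, hf, S.inj ?_, S.inj ?_, fun w => ?_⟩
  · rw [(hf tau (tau_central r)).2, S.map_tau, hg.1]
  · rw [(hf r rfl).2, hg.2, S.map_tau]
  · induction w with
    | nil => simp [evW]
    | cons j w ih =>
      have e : S.φ ((gs.map f).getD j 1) = g * S.φ (gs.getD j 1) * g⁻¹ := by
        rcases lt_or_ge j gs.length with hj | hj
        · rw [List.getD_eq_getElem _ _ (by simpa using hj), List.getD_eq_getElem _ _ hj, List.getElem_map]
          exact (hf _ (hgs _ (List.getElem_mem hj))).2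
        · rw [List.getD_eq_default _ _ (by simpa using hj), List.getD_eq_default _ _ hj]; simp
      simp only [evW, List.map_cons, List.prod_cons, map_mul] at ih ⊢
      rw [ih, e]; group

theorem okEq_images {g : G} {gs im : List M} (h : ∀ w, S.φ (evW im w) = g * S.φ (evW gs w) * g⁻¹)
    {e : List (List ℕ × List ℕ)} (he : okEq gs e = true) : okEq im e = true := by
  simp only [okEq, List.all_eq_true, beq_iff_eq] at he ⊢
  exact fun p hp => S.inj (by rw [h, h, he p hp])

theorem nodup_images {g : G} {gs im : List M} (h : ∀ w, S.φ (evW im w) = g * S.φ (evW gs w) * g⁻¹)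
    {ws : List (List ℕ)} (hn : nodupB (imgs ws gs) = true) : nodupB (imgs ws im) = true := by
  rw [nodupB_iff, imgs] at hn ⊢
  rw [List.nodup_iff_injective_getElem] at hn ⊢
  intro i j hij
  simp only [List.getElem_map] at hij
  have := congrArg S.φ hij
  rw [h, h] at this
  have h' : evW gs (ws[i.val]'(by simpa using i.isLt)) = evW gs (ws[j.val]'(by simpa using j.isLt)) :=
    S.inj (by simpa using this)
  exact Fin.ext (by
    have := @hn ⟨i.val, by simpa using i.isLt⟩ ⟨j.val, by simpa using j.isLt⟩ (by simpa using h')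
    simpa using congrArg Fin.val this)

theorem a12_not_T : ¬ S.IsT (S.φ a12) := by
  intro hT
  obtain ⟨g, hg⟩ := S.exists_swap (Or.inr (Or.inl rfl)) hT
  obtain ⟨f, hf, f1, f2, hw⟩ := S.swap_images hg kgens_cent.1
  obtain ⟨i, hi⟩ := cover12 _ (hf _ (kgens_cent.1 (M.mk (kGens12.getD 2 0)) (by rw [kg12]; simp))).1
  obtain ⟨j, hj⟩ := cover12 _ (hf _ (kgens_cent.1 (M.mk (kGens12.getD 3 0)) (by rw [kg12]; simp))).1
  have him : (kGens12.map M.mk).map f = [a12, tau, kel12 i, kel12 j] := by rw [kg12]; simp [f1, f2, hi, hj]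
  rw [him] at hw
  have h3 : ∀ w, S.φ (evW [a12, tau, kel12 i] w) = g * S.φ (evW ((kGens12.take 3).map M.mk) w) * g⁻¹ := by
    obtain ⟨f', hf', f1', f2', hw'⟩ := S.swap_images hg (gs := (kGens12.take 3).map M.mk)
      (fun x hx => kgens_cent.1 x (by rw [List.map_take] at hx; exact List.mem_of_mem_take hx))
    have he : (kGens12.take 3).map M.mk = [tau, a12, M.mk (kGens12.getD 2 0)] := by
      rw [List.map_take, kg12]; rfl
    rw [he] at hw' ⊢
    have hs : f' (M.mk (kGens12.getD 2 0)) = f (M.mk (kGens12.getD 2 0)) := S.inj (by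
      have hc := kgens_cent.1 (M.mk (kGens12.getD 2 0)) (by rw [kg12]; simp)
      rw [(hf _ hc).2, (hf' _ hc).2])
    simp only [List.map_cons, List.map_nil, f1', f2', hs, ← hi] at hw'
    exact hw'
  have h := none12 i (S.okEq_images h3 gens_ok12.1) j (S.okEq_images hw gens_ok12.2.1)
  have h' := S.nodup_images hw (ws := kWords12) (by rw [words12.1]; exact gens_ok12.2.2)
  rw [h] at h'
  exact Bool.false_ne_true h'

end Setting

end Cfsg.Lib.M12Cent
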