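import Mathlib
import Cfsg.Agent.M12Cent.Data

/-!
The group `2^{1+4}.Sym₃` of order `192` on codes `6 q + s`.
-/

set_option autoImplicit false
set_option maxRecDepth 10000

namespace Cfsg.Lib.M12Cent

/-- field `i` of width `w` -/
def get (tab w i : ℕ) : ℕ := (tab >>> (w * i)) % 2 ^ w

/-- product of the two-group -/
def qmul (a b : Fin 32) : Fin 32 := ⟨get qMulTab 5 (a.val * 32 + b.val) % 32, Nat.mod_lt _ (by norm_num)⟩
/-- product of the complement -/
def smul6 (s t : Fin 6) : Fin 6 := ⟨get sMulTab 3 (s.val * 6 + t.val) % 6, Nat.mod_lt _ (by norm_num)⟩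
/-- the action of the complement -/
def qact (s : Fin 6) (a : Fin 32) : Fin 32 := ⟨get qActTab 5 (s.val * 32 + a.val) % 32, Nat.mod_lt _ (by norm_num)⟩

theorem qmul_assoc : ∀ a b c : Fin 32, qmul (qmul a b) c = qmul a (qmul b c) := by decide +kernel

theorem smul6_assoc : ∀ a b c : Fin 6, smul6 (smul6 a b) c = smul6 a (smul6 b c) := by decide +kernel

theorem qact_mul : ∀ s : Fin 6, ∀ a b : Fin 32, qact s (qmul a b) = qmul (qact s a) (qact s b) := by decide +kernel

theorem qact_act : ∀ s t : Fin 6, ∀ a : Fin 32, qact (smul6 s t) a = qact s (qact t a) := by decide +kernel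

/-- the model -/
def M : Type := Fin 192
deriving DecidableEq, Fintype

/-- the code -/
def M.val (x : M) : ℕ := Fin.val (n := 192) x

/-- from a code -/
def M.mk (i : ℕ) : M := (⟨i % 192, Nat.mod_lt _ (by norm_num)⟩ : Fin 192)

/-- the two parts of a code -/
def qp (x : M) : Fin 32 := ⟨x.val / 6, Nat.div_lt_of_lt_mul x.isLt⟩
/-- the part in the complement -/
def sp (x : M) : Fin 6 := ⟨x.val % 6, Nat.mod_lt _ (by norm_num)⟩
/-- the code of a pair -/
def pr (a : Fin 32) (s : Fin 6) : M := (⟨a.val * 6 + s.val, by omega⟩ : Fin 192)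

theorem qp_pr : ∀ a : Fin 32, ∀ s : Fin 6, qp (pr a s) = a ∧ sp (pr a s) = s := by decide +kernel

theorem pr_parts : ∀ x : M, pr (qp x) (sp x) = x := by decide +kernel

/-- product of the model -/
def mulM (x y : M) : M := pr (qmul (qp x) (qact (sp x) (qp y))) (smul6 (sp x) (sp y))

/-- inverse -/
def invM (x : M) : M := M.mk (get invTab 8 x.val)

instance : One M := ⟨M.mk 0⟩
instance : Mul M := ⟨mulM⟩
instance : Inv M := ⟨invM⟩

theorem one_mul_aux : ∀ x : M, mulM (M.mk 0) x = x := by decide +kernel

theorem inv_mul_aux : ∀ x : M, mulM (invM x) x = M.mk 0 := by decide +kernel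

instance instGroupM : Group M :=
  Group.ofLeftAxioms
    (fun x y z => by
      show mulM (mulM x y) z = mulM x (mulM y z)
      simp only [mulM, (qp_pr _ _).1, (qp_pr _ _).2, smul6_assoc, qact_mul, qact_act, qmul_assoc])
    (fun x => one_mul_aux x)
    (fun x => inv_mul_aux x)

theorem card_M : Nat.card M = 192 := Nat.card_fin 192

/-- membership in a mask -/
def inMask (mask : ℕ) (x : M) : Bool := mask.testBit x.val

/-- orbit label: `1` centre, `2`, `3`, `4` for the classes of length 6, 12, 24 -/
def lab (x : M) : ℕ := get labTab 3 x.val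

/-- conjugator to the representative -/
def cw (x : M) : M := M.mk (get conjTab 8 x.val)

/-- the central involution -/
def tau : M := M.mk tauC
/-- representative of the class of length six -/
def a6 : M := M.mk a6C
/-- representative of the class of length twelve -/
def a12 : M := M.mk a12C
/-- representative of the class of length twenty-four -/
def a24 : M := M.mk a24C
/-- the second involution -/
def mu : M := M.mk uC

/-- the representative of a label -/
def repOf (k : ℕ) : M := if k = 2 then a6 else if k = 3 then a12 else if k = 4 then a24 else tau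

theorem tau_central : ∀ x : M, tau * x = x * tau := by decide +kernel

theorem tau_sq : tau * tau = 1 ∧ tau ≠ 1 := by decide +kernel

theorem lab_invol : ∀ x : M, x * x = 1 → x ≠ 1 → (lab x = 1 ∧ x = tau) ∨
    ((lab x = 2 ∨ lab x = 3 ∨ lab x = 4) ∧ cw x * x * (cw x)⁻¹ = repOf (lab x)) := by decide +kernel

theorem lab_reps : lab a6 = 2 ∧ lab a12 = 3 ∧ lab a24 = 4 ∧ lab tau = 1 ∧ lab mu = 3 := by decide +kernel

end Cfsg.Lib.M12Cent
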