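import Cfsg.Agent.M12Cent.Count

/-!
Generators with the relations of the Mathieu group.
-/

set_option autoImplicit false
set_option linter.unusedSectionVars false
set_option linter.style.haveILetI false
set_option maxRecDepth 10000

namespace Cfsg.Lib.M12Cent

open Subgroup Equiv

/-- the commuting outer involutions and the conjugator between them -/
def c1 : M := M.mk c1C
/-- the second outer involution -/
def c3 : M := M.mk c3C
/-- the conjugator -/
def hh : M := M.mk hC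
/-- the complement involution -/
def s2 : M := M.mk s2C
/-- the factor of the third outer involution in the centraliser of the pair -/
def m0 : M := (M.mk gaC)⁻¹ * M.mk gbC * M.mk gaC
/-- conjugation by the complement involution followed by the swap -/
def rot (x : M) : M := s2 * sw0 (kidx x) * s2⁻¹

theorem mk_parts : inK mu = true ∧ inK m0 = true ∧ inK (c1 * s2⁻¹) = true ∧ inK (c3 * s2⁻¹) = true ∧
    inK (m0 * mu * m0⁻¹) = true ∧ sw0 (kidx (m0 * mu * m0⁻¹)) = mu ∧ sw0 (kidx m0) * m0 = 1 ∧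
    inK (m0 * (c1 * s2⁻¹)) = true ∧ inK (m0 * (c3 * s2⁻¹)) = true ∧ inK (rot (m0 * (c1 * s2⁻¹))) = true ∧
    inK (rot (m0 * (c3 * s2⁻¹))) = true ∧
    (c1 * s2⁻¹) * rot (m0 * (c1 * s2⁻¹)) * rot (rot (m0 * (c1 * s2⁻¹))) * m0 = 1 ∧
    (c3 * s2⁻¹) * rot (m0 * (c3 * s2⁻¹)) * rot (rot (m0 * (c3 * s2⁻¹))) * m0 = 1 := by decide +kernel

theorem s2_props : s2 * s2 = 1 ∧ (∀ i : Fin 32, inK (s2 * kel i * s2⁻¹) = true) ∧
    ∀ i : Fin 32, rot (rot (rot (kel i))) = kel i := by decide +kernel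

theorem sw0_square : ∀ i : Fin 32, sw0 (kidx (sw0 i)) = kel i := by decide +kernel

theorem central_fixed : ∀ j : Fin 32, (∀ i : Fin 32, kel j * kel i = kel i * kel j) → sw0 j = kel j →
    ∃ z : Fin 32, sw0 z * kel j * kel z = 1 ∧ ∀ i : Fin 32, kel z * kel i = kel i * kel z := by decide +kernel

theorem central_rot : ∀ j : Fin 32, (∀ i : Fin 32, kel j * kel i = kel i * kel j) → rot (kel j) = kel j → kel j = 1 := by
  decide +kernel

theorem outer_props : c1 * mu = mu * c1 ∧ c3 * mu = mu * c3 ∧ c1 * c1 = 1 ∧ c3 * c3 = 1 ∧ c1 * c3 = c3 * c1 ∧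
    inV1 true c1 = false ∧ inV1 true c3 = false ∧ c1 ≠ c3 ∧ c1 ≠ c3 * mu ∧
    hh * mu * hh⁻¹ = c1 ∧ hh * c1 * hh⁻¹ = c1 * mu := by decide +kernel

theorem perm_aut_eq : ∀ σ : Perm (Fin 5),
    (∀ p ∈ Cfsg.Lib.HallJankoType.invList, σ * p * σ⁻¹ = p) → σ = 1 := by decide +kernel

set_option synthInstance.maxSize 4000 in
set_option synthInstance.maxHeartbeats 200000 in
theorem perm_delta : ∀ a : Perm (Fin 5), a * a = 1 → Perm.sign a = -1 → ∀ c : Perm (Fin 5), c * c = 1 →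
    Perm.sign c = -1 → a * c = c * a → a ≠ c → ∀ b : Perm (Fin 5), b * b = 1 → (a * b) ^ 3 = 1 → a ≠ b →
    (c * b) ^ 3 = 1 → c ≠ b → ∃ δ : Perm (Fin 5), δ ^ 3 = 1 ∧ δ ≠ 1 ∧ δ * a = a * δ ∧
      c * δ * c = δ⁻¹ ∧ c * δ * b = b * (c * δ) := by decide +kernel

set_option synthInstance.maxSize 4000 in
set_option synthInstance.maxHeartbeats 200000 in
theorem perm_cent_outer : ∀ a : Perm (Fin 5), a * a = 1 → Perm.sign a = -1 → ∀ δ : Perm (Fin 5), δ ^ 3 = 1 → δ ≠ 1 →
    δ * a = a * δ → ∀ e : Perm (Fin 5), e ^ 3 = 1 → e ≠ 1 → e * a = a * e → e = δ ∨ e = δ * δ := by decide +kernel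

theorem conj_alt_bijective :
    Function.Bijective (MulAut.conjNormal : Perm (Fin 5) →* MulAut (alternatingGroup (Fin 5))) := by
  refine ⟨(injective_iff_map_eq_one _).2 fun σ hσ => perm_aut_eq σ fun p hp => ?_, fun φ => ?_⟩
  · obtain ⟨-, hs⟩ := (Cfsg.Lib.HallJankoType.invList_spec p).2 hp
    have := congrArg Subtype.val (show MulAut.conjNormal σ (⟨p, hs⟩ : alternatingGroup (Fin 5)) = ⟨p, hs⟩ by rw [hσ]; rfl)
    rwa [MulAut.conjNormal_apply] at this
  · obtain ⟨σ, hσ⟩ := Cfsg.Lib.SolvStruct.AltAut.exists_conjNormal_eq (n := 5) (by norm_num) φ fun t ht => by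
      rw [← card_support_eq_three_iff]
      have h3 : t * t * t = 1 := Subtype.ext (by
        have h := pow_orderOf_eq_one (t : Perm (Fin 5))
        rw [ht.orderOf, pow_succ, pow_two] at h
        exact h)
      refine Cfsg.Lib.HallJankoType.perm_three _
        (congrArg Subtype.val (show φ t * φ t * φ t = 1 by rw [← map_mul, ← map_mul, h3, map_one])) ?_
      intro e
      have e' : φ t = 1 := Subtype.ext e
      rw [map_eq_one_iff φ φ.injective] at e'
      exact ht.isCycle.ne_one (congrArg Subtype.val e')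
    exact ⟨σ, hσ⟩

/-- conjugation identifies the symmetric group with the automorphisms of the alternating one -/
noncomputable def conjAlt : Perm (Fin 5) ≃* MulAut (alternatingGroup (Fin 5)) :=
  MulEquiv.ofBijective MulAut.conjNormal conj_alt_bijective

theorem cm_cent_bar : ∀ cs : Bool, ∀ k : M, k * mu = mu * k →
    (∀ y : M, inV1 cs y = true → k * y = y * k ∨ k * y = y * k * mu) → inV1 cs k = true := by decide +kernel

variable {G : Type*} [Group G] [Finite G]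

namespace Sit

variable (W : Sit G)

theorem exists_sym [Fact (W.cs = true)] : ∃ ρ : W.Q →* Perm (Fin 5), Function.Bijective ρ ∧
    ∀ q, Perm.sign (ρ q) = 1 ↔ q ∈ W.Mx := by
  classical
  obtain ⟨h60, -⟩ := W.card_Mx
  haveI : Fact (Nat.Prime 2) := ⟨Nat.prime_two⟩
  set V := W.Vq.subgroupOf W.Mx
  have h4 : Nat.card V = 4 := by
    rw [Nat.card_congr (subgroupOfEquivOfLe W.Vq_le_Mx).toEquiv, W.card_Vq]
  obtain ⟨e⟩ : Nonempty (W.Mx ≃* alternatingGroup (Fin 5)) := W.iso_alt h60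
  set Ψ : MulAut (alternatingGroup (Fin 5)) →* Perm (Fin 5) := conjAlt.symm.toMonoidHom
  set ρ : W.Q →* Perm (Fin 5) := Ψ.comp ((MulAut.congr e).toMonoidHom.comp (MulAut.conjNormal (H := W.Mx)))
  have hΨ : ∀ φ : MulAut (alternatingGroup (Fin 5)), MulAut.conjNormal (Ψ φ) = φ := fun φ =>
    conjAlt.apply_symm_apply φ
  have hρ : ∀ q : W.Q, ∀ m : W.Mx, ρ q * (e m).1 * (ρ q)⁻¹ = (e (MulAut.conjNormal q m)).1 := fun q m => by
    rw [← MulAut.conjNormal_apply]
    show (MulAut.conjNormal (Ψ _) (e m)).1 = _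
    rw [hΨ]
    exact congrArg (fun x => (e (MulAut.conjNormal q x)).1) (e.symm_apply_apply m)
  have hMx : ∀ m : W.Mx, ρ m.1 = (e m).1 := fun m => conj_alt_bijective.1 (MulEquiv.ext fun x => Subtype.ext (by
    obtain ⟨x, rfl⟩ := e.surjective x
    rw [MulAut.conjNormal_apply, MulAut.conjNormal_apply, hρ, ← Subgroup.coe_inv, ← Subgroup.coe_mul,
      ← Subgroup.coe_mul, ← map_inv, ← map_mul, ← map_mul]
    congr 2))
  have hker : ∀ q, ρ q = 1 → q = 1 := by
    intro q hq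
    have hc : ∀ g, ρ g = 1 → ∀ m : W.Mx, g * m.1 = m.1 * g := fun g hg m => by
      have := hρ g m
      rw [hg, one_mul, inv_one, mul_one] at this
      have h' := congrArg Subtype.val (e.injective (Subtype.ext this))
      rw [MulAut.conjNormal_apply] at h'
      exact (mul_inv_eq_iff_eq_mul.1 h'.symm)
    obtain ⟨c0, rfl⟩ := QuotientGroup.mk_surjective q
    haveI : Nontrivial V := Finite.one_lt_card_iff_nontrivial.1 (by omega)
    obtain ⟨⟨v, hv⟩, hv1⟩ := exists_ne (1 : V)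
    have hv2 : (v : W.Q) * v = 1 := by
      obtain ⟨k, hk, hkv⟩ := mem_subgroupOf.1 hv
      rw [← hkv, ← map_mul, show k * k = 1 from Subtype.ext (v1_sq W.cs k.1 hk), map_one]
    obtain ⟨x, hxv, hxT, -⟩ := W.lift_spec v.2 hv2 (fun h => hv1 (Subtype.ext (Subtype.ext h)))
    have hcx := W.cent_bar hxT (y := c0) (by rw [hxv]; exact hc _ hq v)
    obtain ⟨n, hn⟩ := W.cent_two hxT ⟨c0, mem_centralizer_singleton_iff.2 hcx⟩
    obtain ⟨c, k, hk⟩ := W.into_P0 (x := c0) (n := n) (congrArg Subtype.val hn)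
    have hkq : W.χ k = (c : W.Q) * c0 * (c : W.Q)⁻¹ := by
      rw [W.χ_apply, hk, QuotientGroup.mk_mul, QuotientGroup.mk_mul, QuotientGroup.mk_inv]
    have hρk : ρ (W.χ k) = 1 := by rw [hkq, map_mul, map_mul, hq, mul_one, map_inv, mul_inv_cancel]
    have hk1 : inV1 W.cs k.1 = true := cm_cent_bar W.cs k.1 (mem_centralizer_singleton_iff.1 k.2) fun y hy => by
      set y' : CM := ⟨y, mem_centralizer_singleton_iff.2 (mem_v1_comm hy)⟩
      have := hc _ hρk ⟨_, W.Vq_le_Mx (mem_map_of_mem W.χ (show y' ∈ V1 W.cs from hy))⟩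
      change W.χ k * W.χ y' = W.χ y' * W.χ k at this
      rw [← map_mul, ← map_mul, W.χ_apply, W.χ_apply] at this
      rcases W.mk_eq this with e' | e'
      · exact Or.inl (congrArg Subtype.val (W.ψ_inj e').symm)
      · right
        have e2 : W.ψ (y' * k * muC) = W.ψ (k * y') := by
          rw [map_mul, e', W.ψ_mu, mul_assoc, W.uC_sq, mul_one]
        exact (congrArg Subtype.val (W.ψ_inj e2)).symm
    have hkM : W.χ k ∈ W.Mx := W.Vq_le_Mx (mem_map_of_mem W.χ (mem_V1.2 hk1))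
    have hek : (e ⟨_, hkM⟩).1 = 1 := by rw [← hMx]; exact hρk
    have : W.χ k = 1 := by
      have h' := e.injective ((Subtype.ext hek : e ⟨_, hkM⟩ = 1).trans (map_one e).symm)
      exact congrArg Subtype.val h'
    rw [this] at hkq
    exact conj_eq_one_iff.1 hkq.symm
  have hinj : Function.Injective ρ := (injective_iff_map_eq_one _).2 hker
  have hsurj : Function.Bijective ρ := (Nat.bijective_iff_injective_and_card ρ).2 ⟨hinj, by
    rw [← W.card_Mx_mul, h60, Nat.card_perm, Nat.card_fin]; rfl⟩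
  refine ⟨ρ, hsurj, fun q => ⟨fun hs => ?_, fun hq => ?_⟩⟩
  · have : ρ q = ρ (e.symm ⟨ρ q, Equiv.Perm.mem_alternatingGroup.2 hs⟩).1 := by rw [hMx, MulEquiv.apply_symm_apply]
    rw [hinj this]
    exact (e.symm _).2
  · rw [show ρ q = (e ⟨q, hq⟩).1 from hMx ⟨q, hq⟩]
    exact Equiv.Perm.mem_alternatingGroup.1 (e ⟨q, hq⟩).2

theorem exists_n [Fact (W.cs = true)] : ∃ n : G, n * n = 1 ∧ (∀ i, n * W.φ (kel i) * n = W.φ (sw0 i)) ∧
    (n * W.φ s2) ^ 3 = 1 := by
  obtain ⟨hn1, hn2⟩ := W.n0_t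
  set n := W.n0
  have hsq : ∀ i, n * n * W.φ (kel i) = W.φ (kel i) * (n * n) := fun i => by
    have h2 := W.n0_spec (kidx (sw0 i))
    rw [sw0_square, show kel (kidx (sw0 i)) = sw0 i from kel_kidx (kel_spec _).1, ← W.n0_spec i] at h2
    refine mul_inv_eq_iff_eq_mul.1 ?_
    calc n * n * W.φ (kel i) * (n * n)⁻¹ = n * (n * W.φ (kel i) * n⁻¹) * n⁻¹ := by group
      _ = _ := h2
  obtain ⟨m, hm⟩ := W.mem_iff.1 (show n * n * W.t = W.t * (n * n) by
    have := hsq (kidx tau); rwa [kel_tau, W.map_tau] at this)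
  have hmK : inK m = true := (inK_iff m).2 (W.inj (by
    rw [map_mul, map_mul, hm]
    have := hsq (kidx a6); rwa [kel_a6] at this))
  obtain ⟨z, hz, hzc⟩ := central_fixed (kidx m)
    (fun i => W.inj (by rw [map_mul, map_mul, kel_kidx hmK, hm]; exact hsq i))
    (W.inj (by rw [← W.n0_spec, kel_kidx hmK, hm]; simp only [n]; group))
  rw [kel_kidx hmK] at hz
  set n' := n * W.φ (kel z) with hn'
  have hn'sq : n' * n' = 1 := by
    have e : n' * n' = W.φ (sw0 z) * W.φ m * W.φ (kel z) := by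
      rw [hn', hm, ← W.n0_spec z]; simp only [n]; group
    rw [e, ← map_mul, ← map_mul, hz, map_one]
  have hn'inv : n'⁻¹ = n' := inv_eq_of_mul_eq_one_right hn'sq
  have hspec : ∀ i, n' * W.φ (kel i) * n' = W.φ (sw0 i) := fun i => by
    conv_lhs => arg 2; rw [← hn'inv]
    calc n' * W.φ (kel i) * n'⁻¹ = n * (W.φ (kel z) * W.φ (kel i) * (W.φ (kel z))⁻¹) * n⁻¹ := by rw [hn']; group
      _ = n * W.φ (kel i) * n⁻¹ := by rw [← map_mul, hzc i, map_mul, mul_inv_cancel_right]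
      _ = _ := W.n0_spec i
  refine ⟨n', hn'sq, hspec, ?_⟩
  have hs2 : (W.φ s2)⁻¹ = W.φ s2 := by rw [← map_inv, inv_eq_of_mul_eq_one_right s2_props.1]
  set y := W.φ s2 * n' with hy
  have hyk : ∀ x, inK x = true → y * W.φ x * y⁻¹ = W.φ (rot x) := fun x hx => by
    calc y * W.φ x * y⁻¹ = W.φ s2 * (n' * W.φ (kel (kidx x)) * n') * (W.φ s2)⁻¹ := by
          rw [hy, kel_kidx hx, mul_inv_rev, hn'inv]; group
      _ = _ := by rw [hspec, rot, map_mul, map_mul, map_inv]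
  have hrotK : ∀ x, inK x = true → inK (rot x) = true := fun x _ => s2_props.2.1 (act f0C (kidx x))
  have hy3 : ∀ i, y ^ 3 * W.φ (kel i) = W.φ (kel i) * y ^ 3 := fun i => by
    have h1 := (kel_spec i).1
    refine mul_inv_eq_iff_eq_mul.1 ?_
    calc y ^ 3 * W.φ (kel i) * (y ^ 3)⁻¹ = y * (y * (y * W.φ (kel i) * y⁻¹) * y⁻¹) * y⁻¹ := by
          simp only [pow_succ, pow_zero, one_mul, mul_inv_rev, mul_assoc]
      _ = _ := by rw [hyk _ h1, hyk _ (hrotK _ h1), hyk _ (hrotK _ (hrotK _ h1)), s2_props.2.2 i]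
  obtain ⟨w, hw⟩ := W.mem_iff.1 (show y ^ 3 * W.t = W.t * y ^ 3 by
    have := hy3 (kidx tau); rwa [kel_tau, W.map_tau] at this)
  have hwK : inK w = true := (inK_iff w).2 (W.inj (by
    rw [map_mul, map_mul, hw]
    have := hy3 (kidx a6); rwa [kel_a6] at this))
  have hw1 : kel (kidx w) = 1 := central_rot (kidx w)
    (fun i => W.inj (by rw [map_mul, map_mul, kel_kidx hwK, hw]; exact hy3 i))
    (W.inj (by
      rw [← hyk _ (kel_spec _).1, kel_kidx hwK, hw, show y * y ^ 3 = y ^ 3 * y from (pow_mul_comm' y 3).symm,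
        mul_inv_cancel_right]))
  rw [kel_kidx hwK] at hw1
  rw [hw1, map_one] at hw
  have e : n' * W.φ s2 = n' * y * n'⁻¹ := by rw [hy, mul_assoc (n') , mul_assoc (W.φ s2), mul_inv_cancel, mul_one]
  rw [e, conj_pow, ← hw, mul_one, mul_inv_cancel]

theorem exists_gens [Fact (W.cs = true)] : ∃ n d : G, n * n = 1 ∧ (∀ i, n * W.φ (kel i) * n = W.φ (sw0 i)) ∧
    (n * W.φ s2) ^ 3 = 1 ∧ d ^ 3 = 1 ∧ d * W.u = W.u * d ∧ d * W.φ c1 = W.φ c1 * d ∧
    W.φ c3 * d * W.φ c3 = d⁻¹ ∧ W.φ c3 * d * (n * W.φ m0) = n * W.φ m0 * (W.φ c3 * d) ∧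
    (W.φ hh * d * (W.φ hh)⁻¹ = d ∨ W.φ hh * d * (W.φ hh)⁻¹ = d⁻¹) := by
  obtain ⟨n, hn, hspec, hns⟩ := W.exists_n
  obtain ⟨hmu, hm0, hk1, hk3, hmm, hfix, hinv, hp1, hp3, hq1, hq3, e1, e3⟩ := mk_parts
  obtain ⟨hc1u, hc3u, hc1sq, hc3sq, hc13, hc1v, hc3v, hne, hne', hh1, hh2⟩ := outer_props
  obtain ⟨hn1, -⟩ := W.n0_t
  set c2 := n * W.φ m0 with hc2
  have hni : n⁻¹ = n := inv_eq_of_mul_eq_one_right hn
  have hnk : ∀ x, inK x = true → n * W.φ x * n = W.φ (sw0 (kidx x)) := fun x hx => by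
    rw [← hspec, kel_kidx hx]
  have hnt : n * W.t * n = W.φ a6 := by
    have := hspec (kidx tau)
    rwa [kel_tau, W.map_tau, d4_props.2.2.2.2.1] at this
  have hnout : ∀ m, W.φ m ≠ n := fun m hm => by
    rw [← hm, W.φ_comm, mul_assoc, ← map_mul, ← W.map_tau, ← map_mul, show m * m = 1 from W.inj (by
      rw [map_mul, hm, hn, map_one]), mul_one] at hnt
    exact rep_invol.2.2.1 (W.inj hnt).symm
  have hc2sq : c2 * c2 = 1 := by
    rw [hc2, show n * W.φ m0 * (n * W.φ m0) = n * W.φ m0 * n * W.φ m0 by group, hnk m0 hm0, ← map_mul, hinv, map_one]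
  have hc2u : c2 * W.u = W.u * c2 := by
    have h1 : W.φ m0 * W.u = W.φ (m0 * mu * m0⁻¹) * W.φ m0 := by
      rw [← map_mul, inv_mul_cancel_right, map_mul]; rfl
    have h2 : n * W.φ (m0 * mu * m0⁻¹) = W.u * n := by
      have := hnk _ hmm
      rw [hfix] at this
      show _ = W.φ mu * n
      rw [← this, mul_assoc _ n n, hn, mul_one]
    rw [hc2, mul_assoc, h1, ← mul_assoc, h2, mul_assoc]
  set y := W.φ s2 * n with hy
  have hy3 : y ^ 3 = 1 := by
    rw [show y = W.φ s2 * (n * W.φ s2) * (W.φ s2)⁻¹ by rw [hy]; group, conj_pow, hns, mul_one, mul_inv_cancel]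
  have hyk : ∀ x, inK x = true → y * W.φ x = W.φ (rot x) * y := fun x hx => by
    refine mul_inv_eq_iff_eq_mul.1 ?_
    calc y * W.φ x * y⁻¹ = W.φ s2 * (n * W.φ x * n) * (W.φ s2)⁻¹ := by rw [hy, mul_inv_rev, hni]; group
      _ = _ := by rw [hnk x hx, rot, map_mul, map_mul, map_inv]
  have hcube : ∀ c, inK (m0 * (c * s2⁻¹)) = true → inK (rot (m0 * (c * s2⁻¹))) = true →
      (c * s2⁻¹) * rot (m0 * (c * s2⁻¹)) * rot (rot (m0 * (c * s2⁻¹))) * m0 = 1 → (W.φ c * c2) ^ 3 = 1 := by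
    intro c hp hq he
    set k := c * s2⁻¹ with hk
    set p := m0 * k
    have hcf : W.φ c * c2 = W.φ k * y * W.φ m0 := by
      rw [hc2, hy, hk, ← mul_assoc (W.φ (c * s2⁻¹)), ← map_mul, inv_mul_cancel_right, mul_assoc]
    calc (W.φ c * c2) ^ 3 = W.φ k * y * W.φ p * y * W.φ p * y * W.φ m0 := by
          rw [hcf, show W.φ p = W.φ m0 * W.φ k from map_mul _ _ _]; simp only [pow_succ, pow_zero, one_mul, mul_assoc]
      _ = W.φ k * (W.φ (rot p) * y) * (y * W.φ p) * y * W.φ m0 := by rw [← hyk p hp]; group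
      _ = W.φ k * W.φ (rot p) * (y * W.φ (rot p)) * y * y * W.φ m0 := by rw [hyk p hp]; group
      _ = W.φ k * W.φ (rot p) * W.φ (rot (rot p)) * y ^ 3 * W.φ m0 := by
          rw [hyk _ hq]; simp only [pow_succ, pow_zero, one_mul, mul_assoc]
      _ = 1 := by rw [hy3, mul_one, ← map_mul, ← map_mul, ← map_mul, he, map_one]
  have hc2ne : ∀ c, W.φ c ≠ c2 := fun c h => hnout (c * m0⁻¹) (by
    rw [map_mul, map_inv, h, hc2, mul_inv_cancel_right])
  obtain ⟨ρ, hρ, hsign⟩ := W.exists_sym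
  set a : W.C := ⟨W.φ c1, W.φ_mem_C hc1u⟩
  set c : W.C := ⟨W.φ c3, W.φ_mem_C hc3u⟩
  set b : W.C := ⟨c2, W.mem_C.2 hc2u⟩
  have haq : ∀ {x : W.C}, x * x = 1 → ρ x * ρ x = 1 := fun h => by
    rw [← map_mul, ← QuotientGroup.mk_mul, h, QuotientGroup.mk_one, map_one]
  have ha2 : a * a = 1 := Subtype.ext (by show W.φ c1 * W.φ c1 = 1; rw [← map_mul, hc1sq, map_one])
  have hc2' : c * c = 1 := Subtype.ext (by show W.φ c3 * W.φ c3 = 1; rw [← map_mul, hc3sq, map_one])
  have hb2 : b * b = 1 := Subtype.ext hc2sq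
  have hout : ∀ k : CM, inV1 true k.1 = false → Perm.sign (ρ (W.χ k)) = -1 := fun k hk => by
    refine (Int.units_eq_one_or _).resolve_left fun h => ?_
    have := W.Pq_inf ((hsign _).1 h)
    rw [(Fact.out : W.cs = true), hk] at this
    exact Bool.noConfusion this
  have hsa : Perm.sign (ρ a) = -1 := hout ⟨c1, mem_centralizer_singleton_iff.2 hc1u⟩ hc1v
  have hsc : Perm.sign (ρ c) = -1 := hout ⟨c3, mem_centralizer_singleton_iff.2 hc3u⟩ hc3v
  have hac : ρ a * ρ c = ρ c * ρ a := by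
    rw [← map_mul, ← map_mul, ← QuotientGroup.mk_mul, ← QuotientGroup.mk_mul,
      show a * c = c * a from Subtype.ext (by show W.φ c1 * W.φ c3 = W.φ c3 * W.φ c1; rw [← map_mul, hc13, map_mul])]
  have hcne : ρ a ≠ ρ c := fun h => by
    rcases W.mk_eq (hρ.1 h) with e | e <;> have e' : W.φ c3 = _ := congrArg Subtype.val e
    · exact hne (W.inj e'.symm)
    · have e2 : W.φ c3 = W.φ (c1 * mu) := e'.trans (map_mul W.φ c1 mu).symm
      exact hne' (by rw [W.inj e2, mul_assoc, mu_props.1, mul_one])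
  have hpow : ∀ (x : W.C) (h3 : ((x : G) * c2) ^ 3 = 1), (ρ x * ρ b) ^ 3 = 1 := fun x h3 => by
    rw [← map_mul, ← map_pow, ← QuotientGroup.mk_mul, ← QuotientGroup.mk_pow,
      show (x * b) ^ 3 = 1 from Subtype.ext h3, QuotientGroup.mk_one, map_one]
  have hcube1 := hcube c1 hp1 hq1 e1
  have hcube3 := hcube c3 hp3 hq3 e3
  have hbne : ∀ (k : M) (x : W.C), (x : G) = W.φ k → x * x = 1 → ((x : G) * c2) ^ 3 = 1 → ρ x ≠ ρ b := by
    intro k x hxk hx2 h3 h
    refine hc2ne k ?_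
    have hb' : b = x ∨ b = x * W.uC := W.mk_eq (hρ.1 h)
    rcases hb' with e | e
    · rw [← hxk, ← e]
    · exfalso
      have h3' : (x * b) ^ 3 = 1 := Subtype.ext h3
      rw [e, ← mul_assoc, hx2, one_mul, pow_succ, pow_two, W.uC_sq, one_mul] at h3'
      exact W.uC_ne h3'
  obtain ⟨δ, hδ3, hδ1, hδa, hδc, hδb⟩ := perm_delta _ (haq ha2) hsa _ (haq hc2') hsc hac hcne _ (haq hb2)
    (hpow a hcube1) (hbne c1 a rfl ha2 hcube1) (hpow c hcube3) (hbne c3 c rfl hc2' hcube3)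
  obtain ⟨q, rfl⟩ := hρ.2 δ
  obtain ⟨d0, rfl⟩ := QuotientGroup.mk_surjective q
  rw [← map_pow, ← QuotientGroup.mk_pow] at hδ3
  have hd03 : ((d0 ^ 3 : W.C) : W.Q) = 1 := hρ.1 (hδ3.trans (map_one ρ).symm)
  set d := d0 ^ 4 with hd
  have hd3 : d ^ 3 = 1 := by
    rw [hd, ← pow_mul, show 4 * 3 = 3 * 4 from rfl, pow_mul]
    rcases W.mem_Z.1 ((QuotientGroup.eq_one_iff _).1 hd03) with e | e <;>
      rw [e, show (4 : ℕ) = 2 * 2 from rfl, pow_mul, pow_two, pow_two] <;> simp [W.uC_sq]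
  have hdq : (d : W.Q) = (d0 : W.Q) := by
    rw [hd, pow_succ, QuotientGroup.mk_mul, hd03, one_mul]
  rw [← hdq] at hδ1 hδa hδc hδb
  clear hd03 hδ3 hdq hd
  clear_value d
  have huodd : ∀ x : W.C, x ^ 3 = 1 → (x * W.uC) ^ 3 ≠ 1 := fun x hx h => by
    rw [(show Commute x W.uC from W.uC_comm x).mul_pow, hx, one_mul, pow_succ, pow_two, W.uC_sq, one_mul] at h
    exact W.uC_ne h
  have hda : d * a = a * d := by
    rw [← map_mul, ← map_mul, ← QuotientGroup.mk_mul, ← QuotientGroup.mk_mul] at hδa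
    refine ((W.mk_eq (hρ.1 hδa)).resolve_right fun e => ?_).symm
    -- conjugation by an element of order three cannot exchange the two lifts
    have hcj : ∀ z, d * (a * z) * d⁻¹ = d * a * d⁻¹ * (d * z * d⁻¹) := fun z => by group
    have hd' : d * a * d⁻¹ = a * W.uC := by
      have e2 : d * a = a * d * W.uC := by rw [e, mul_assoc, W.uC_sq, mul_one]
      rw [e2, mul_assoc a d, W.uC_comm, ← mul_assoc, mul_inv_cancel_right]
    have hdu : d * W.uC * d⁻¹ = W.uC := by rw [W.uC_comm, mul_inv_cancel_right]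
    have h2 : d * (d * a * d⁻¹) * d⁻¹ = a := by rw [hd', hcj, hd', hdu, mul_assoc, W.uC_sq, mul_one]
    have h3 : d ^ 3 * a * (d ^ 3)⁻¹ = a * W.uC := by
      calc d ^ 3 * a * (d ^ 3)⁻¹ = d * (d * (d * a * d⁻¹) * d⁻¹) * d⁻¹ := by
            simp only [pow_succ, pow_zero, one_mul, mul_inv_rev, mul_assoc]
        _ = a * W.uC := by rw [h2, hd']
    rw [hd3, one_mul, inv_one, mul_one] at h3
    exact W.uC_ne (mul_eq_left.1 h3.symm)
  have hdc : c * d * c = d⁻¹ := by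
    rw [← map_mul, ← map_mul, ← map_inv, ← QuotientGroup.mk_mul, ← QuotientGroup.mk_mul, ← QuotientGroup.mk_inv] at hδc
    refine (W.mk_eq (hρ.1 hδc).symm).resolve_right fun e => huodd d⁻¹ (by rw [inv_pow, hd3, inv_one]) ?_
    rw [← e]
    have hci : c⁻¹ = c := inv_eq_of_mul_eq_one_right hc2'
    calc (c * d * c) ^ 3 = (c * d * c⁻¹) ^ 3 := by rw [hci]
      _ = 1 := by rw [conj_pow, hd3, mul_one, mul_inv_cancel]
  have hdb : c * d * b = b * (c * d) := by
    rw [← map_mul, ← map_mul, ← map_mul, ← QuotientGroup.mk_mul, ← QuotientGroup.mk_mul, ← QuotientGroup.mk_mul] at hδb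
    refine (W.mk_eq (hρ.1 hδb)).resolve_right (fun e => W.no_root (c * d * b) ?_) |>.symm
    have hb' : c * d * b = b * (c * d) * W.uC := by rw [e, mul_assoc (c * d * b) W.uC W.uC, W.uC_sq, mul_one]
    have hcd : c * d * (c * d) = 1 := by rw [← mul_assoc, hdc, inv_mul_cancel]
    calc c * d * b * (c * d * b) = b * (c * d) * W.uC * (c * d * b) := by conv_lhs => arg 1; rw [hb']
      _ = b * (c * d) * (c * d * b) * W.uC := by rw [mul_assoc _ W.uC, ← W.uC_comm (c * d * b), ← mul_assoc]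
      _ = W.uC := by rw [← mul_assoc (b * (c * d)), mul_assoc b, hcd, mul_one, hb2, one_mul]
  refine ⟨n, d, hn, hspec, hns, congrArg Subtype.val hd3, W.mem_C.1 d.2, congrArg Subtype.val hda,
    congrArg Subtype.val hdc, congrArg Subtype.val hdb, ?_⟩
  have hH1 : W.φ hh * W.u * (W.φ hh)⁻¹ = W.φ c1 := by rw [u, ← map_inv, ← map_mul, ← map_mul, hh1]
  have hH2 : W.φ hh * W.φ c1 * (W.φ hh)⁻¹ = W.φ c1 * W.u := by rw [u, ← map_inv, ← map_mul, ← map_mul, hh2, map_mul]
  have hduG : Commute (d : G) W.u := W.mem_C.1 d.2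
  have hdaG : Commute (d : G) (W.φ c1) := congrArg Subtype.val hda
  set x := W.φ hh * (d : G) * (W.φ hh)⁻¹ with hx
  have hxa : Commute x (W.φ c1) := hH1 ▸ hduG.map (MulAut.conj (W.φ hh)).toMonoidHom
  have hxau : Commute x (W.φ c1 * W.u) := hH2 ▸ hdaG.map (MulAut.conj (W.φ hh)).toMonoidHom
  have hxu : Commute x W.u := by
    have := hxa.mul_right hxau
    rwa [← mul_assoc, ← map_mul, hc1sq, map_one, one_mul] at this
  set xC : W.C := ⟨x, W.mem_C.2 hxu⟩
  have hx3 : xC ^ 3 = 1 := Subtype.ext (by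
    show x ^ 3 = 1
    rw [hx, conj_pow, show (d : G) ^ 3 = 1 from congrArg Subtype.val hd3, mul_one, mul_inv_cancel])
  have hxC1 : xC ≠ 1 := fun e => by
    have e' : x = 1 := congrArg Subtype.val e
    rw [hx, conj_eq_one_iff] at e'
    refine hδ1 ?_
    rw [show d = 1 from Subtype.ext e', QuotientGroup.mk_one, map_one]
  have hxq : ρ xC ≠ 1 := fun e => by
    rcases W.mem_Z.1 ((QuotientGroup.eq_one_iff _).1 (hρ.1 (e.trans (map_one ρ).symm))) with e' | e'
    · exact hxC1 e'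
    · exact W.uC_ne (by rw [e', pow_succ, pow_two, W.uC_sq, one_mul] at hx3; exact hx3)
  have hcom : ρ xC * ρ a = ρ a * ρ xC := by
    rw [← map_mul, ← map_mul, ← QuotientGroup.mk_mul, ← QuotientGroup.mk_mul,
      show xC * a = a * xC from Subtype.ext hxa.eq]
  rcases perm_cent_outer _ (haq ha2) hsa _ (by rw [← map_pow, ← QuotientGroup.mk_pow, hd3, QuotientGroup.mk_one, map_one])
    hδ1 hδa _ (by rw [← map_pow, ← QuotientGroup.mk_pow, hx3, QuotientGroup.mk_one, map_one]) hxq hcom with e | e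
  · left
    exact congrArg Subtype.val (show xC = d from
      ((W.mk_eq (hρ.1 e)).resolve_right fun h => huodd xC hx3 (h ▸ hd3)).symm)
  · right
    rw [← map_mul, ← QuotientGroup.mk_mul] at e
    have hdd : d * d = d⁻¹ := eq_inv_of_mul_eq_one_left (by rw [← hd3]; simp [pow_succ])
    rw [hdd] at e
    exact congrArg Subtype.val (show xC = d⁻¹ from
      ((W.mk_eq (hρ.1 e)).resolve_right fun h => huodd xC hx3 (h ▸ (by rw [inv_pow, hd3, inv_one]))).symm)

end Sit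

end Cfsg.Lib.M12Cent
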