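import Mathlib
import Cfsg.Agent.M12Cent.Model
import Cfsg.Agent.M12Cent.SwapData

/-!
Maps of the centraliser of the swapped pair, packed into natural numbers.
-/

set_option autoImplicit false
set_option maxRecDepth 10000

namespace Cfsg.Lib.M12Cent

/-- value of a word in a list of elements -/
def evW {α : Type*} [Monoid α] (g : List α) (w : List ℕ) : α := (w.map fun j => g.getD j 1).prod

/-- all equations hold -/
def okEq (g : List M) (e : List (List ℕ × List ℕ)) : Bool := e.all fun p => evW g p.1 == evW g p.2

/-- no repetitions -/
def nodupB : List M → Bool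
  | [] => true
  | a :: l => !(l.contains a) && nodupB l

theorem nodupB_iff : ∀ l : List M, nodupB l = true ↔ l.Nodup
  | [] => by simp [nodupB]
  | a :: l => by simp [nodupB, nodupB_iff l, List.contains_iff_mem]

/-- elements of the centraliser of the pair `tau, a6` -/
def kel (i : Fin 32) : M := M.mk (kList6.getD i.val 0)

/-- index in that centraliser -/
def kidx (x : M) : Fin 32 := ⟨get kIdxTab 5 x.val % 32, Nat.mod_lt _ (by norm_num)⟩

/-- an element centralises the pair -/
def inK (x : M) : Bool := inMask kMask x

theorem inK_iff : ∀ x : M, inK x = true ↔ x * a6 = a6 * x := by decide +kernel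

theorem kel_spec : ∀ i : Fin 32, inK (kel i) = true ∧ kidx (kel i) = i := by decide +kernel

theorem kidx_spec : ∀ x : M, inK x = true → kel (kidx x) = x := by decide +kernel

theorem kel_kidx {x : M} (h : inK x = true) : kel (kidx x) = x := kidx_spec x h

/-- image under a packed map -/
def act (c : ℕ) (i : Fin 32) : Fin 32 := ⟨get c 5 i.val % 32, Nat.mod_lt _ (by norm_num)⟩

/-- packing -/
def pack (f : Fin 32 → Fin 32) : ℕ :=
  (List.range 32).foldr (fun i acc => acc * 32 + (if h : i < 32 then (f ⟨i, h⟩).val else 0)) 0

theorem act_pack (f : Fin 32 → Fin 32) (i : Fin 32) : act (pack f) i = f i := by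
  have key : ∀ n a, a + n ≤ 32 → ∀ j, j < n →
      (((List.range' a n).foldr (fun i acc => acc * 32 + (if h : i < 32 then (f ⟨i, h⟩).val else 0)) 0) / 32 ^ j) % 32
        = if h : a + j < 32 then (f ⟨a + j, h⟩).val else 0 := by
    intro n
    induction n with
    | zero => intro a _ j hj; omega
    | succ n ih =>
      intro a ha j hj
      rw [List.range'_succ, List.foldr_cons]
      have hlt : (if h : a < 32 then (f ⟨a, h⟩).val else 0) < 32 := by split_ifs <;> omega
      cases j with
      | zero => simp only [pow_zero, Nat.div_one, add_zero]; omega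
      | succ j =>
        have h1 := ih (a + 1) (by omega) j (by omega)
        rw [pow_succ', ← Nat.div_div_eq_div_mul]
        rw [Nat.mul_comm _ 32, Nat.mul_add_div (by norm_num), Nat.div_eq_of_lt hlt, add_zero]
        simpa [Nat.add_comm, Nat.add_left_comm, Nat.add_assoc] using h1
  apply Fin.ext
  have := key 32 0 le_rfl i.val i.isLt
  simp only [zero_add, dif_pos i.isLt] at this
  simp only [act, get, pack, List.range_eq_range', Nat.shiftRight_eq_div_pow, pow_mul]
  norm_num
  rw [this]

/-- composition -/
def comp (c d : ℕ) : ℕ := pack fun i => act c (act d i)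

theorem act_comp (c d : ℕ) (i : Fin 32) : act (comp c d) i = act c (act d i) := act_pack _ i

/-- the identity map -/
def idCode : ℕ := pack id

theorem act_id (i : Fin 32) : act idCode i = i := act_pack id i

/-- value of a word of maps -/
def evalMaps (gens : List ℕ) (w : List ℕ) : ℕ := w.foldl (fun u k => comp (gens.getD k idCode) u) idCode

theorem evalMaps_mem {P : ℕ → Prop} (hid : P idCode) (hcomp : ∀ c d, P c → P d → P (comp c d)) {gens : List ℕ}
    (hg : ∀ c ∈ gens, P c) (w : List ℕ) : P (evalMaps gens w) := by
  suffices ∀ u, P u → P (w.foldl (fun u k => comp (gens.getD k idCode) u) u) from this _ hid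
  induction w with
  | nil => exact fun u hu => hu
  | cons k w ih =>
    intro u hu
    refine ih _ (hcomp _ _ ?_ hu)
    rcases lt_or_ge k gens.length with hk | hk
    · rw [List.getD_eq_getElem _ _ hk]; exact hg _ (List.getElem_mem hk)
    · rw [List.getD_eq_default _ _ hk]; exact hid

/-- two maps agree -/
def sameMap (c d : ℕ) : Bool := (List.finRange 32).all fun i => act c i == act d i

theorem sameMap_iff {c d : ℕ} : sameMap c d = true ↔ ∀ i, act c i = act d i := by
  simp [sameMap, List.all_eq_true]

end Cfsg.Lib.M12Cent
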