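import Cfsg.Agent.M12Cent.Classes
import Cfsg.Agent.LocalThree.HallJankoType.KleinCases
import Cfsg.Agent.LocalThree.HallJankoType.AltFive

/-!
The centraliser of an involution of the second class.
-/

set_option autoImplicit false
set_option linter.unusedSectionVars false
set_option linter.style.haveILetI false
set_option maxRecDepth 10000

namespace Cfsg.Lib.M12Cent

open Subgroup Cfsg.Lib.HallJankoType

/-- centralising the second involution and in the four-group modulo it -/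
def inV1 (cs : Bool) (m : M) : Bool :=
  m * mu == mu * m && (m == 1 || m == mu || isTB cs m || isTB cs (m * mu))

/-- an involution outside of `inV1` -/
def wE (cs : Bool) : M :=
  (((List.range 192).map M.mk).find? fun m => m * mu == mu * m && m * m == 1 && !inV1 cs m).getD 1

theorem cm_center : ∀ cs : Bool, ∀ k : M, k * mu = mu * k → (∀ y : M, y * mu = mu * y → k * y = y * k) →
    isTB cs k = true → k = tau := by decide +kernel

theorem v1_closed : ∀ cs : Bool, inV1 cs 1 = true ∧ inV1 cs mu = true ∧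
    (∀ x : M, inV1 cs x = true → inV1 cs x⁻¹ = true ∧ ∀ y : M, inV1 cs y = true → inV1 cs (x * y) = true) := by
  decide +kernel

theorem v1_split : ∀ cs : Bool, ∀ k : M, inV1 cs k = true → k ≠ 1 → k ≠ mu →
    (isTB cs k = true ∧ isUB cs (k * mu) = true) ∨ (isUB cs k = true ∧ isTB cs (k * mu) = true) := by decide +kernel

theorem v1_sq : ∀ cs : Bool, ∀ k : M, inV1 cs k = true → k * k = 1 := by decide +kernel

theorem v1_of_T : ∀ cs : Bool, ∀ k : M, k * mu = mu * k → isTB cs k = true →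
    inV1 cs k = true ∧ k ≠ 1 ∧ k ≠ mu ∧ isTB cs (k * mu) = false := by decide +kernel

theorem wE_spec : ∀ cs : Bool, wE cs * mu = mu * wE cs ∧ inV1 cs (wE cs) = false ∧ wE cs * wE cs = 1 ∧
    ∀ k : M, k * mu = mu * k → inV1 cs k = false → inV1 cs (k * wE cs) = true := by decide +kernel

theorem cm_center_bar : ∀ cs : Bool, ∀ k : M, k * mu = mu * k →
    (∀ y : M, y * mu = mu * y → k * y = y * k ∨ k * y = y * k * mu) → inV1 cs k = true := by decide +kernel

theorem cm_no_root : ∀ k : M, k * mu = mu * k → k * k ≠ mu := by decide +kernel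

theorem cent_ub : ∀ cs : Bool, ∀ k : M, isUB cs k = true → Fintype.card (centM k) = 16 ∨ Fintype.card (centM k) = 8 := by
  decide +kernel

theorem cm_cards : Fintype.card (centM mu) = 16 ∧
    ∀ cs : Bool, Fintype.card {m : M // inV1 cs m = true} = 8 := by decide +kernel

theorem mu_props : mu * mu = 1 ∧ mu ≠ 1 ∧ tau * mu = mu * tau := by decide +kernel

theorem mem_v1_comm {cs : Bool} {m : M} (h : inV1 cs m = true) : m * mu = mu * m := by
  simp only [inV1, Bool.and_eq_true, beq_iff_eq] at h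
  exact h.1

/-- the centraliser in the model -/
abbrev CM : Subgroup M := centralizer ({mu} : Set M)

/-- the subgroup of index two -/
def V1 (cs : Bool) : Subgroup CM where
  carrier := {k | inV1 cs k.1 = true}
  one_mem' := (v1_closed cs).1
  mul_mem' := fun {x y} hx hy => ((v1_closed cs).2.2 x hx).2 y hy
  inv_mem' := fun {x} hx => ((v1_closed cs).2.2 x hx).1

theorem mem_V1 {cs : Bool} {k : CM} : k ∈ V1 cs ↔ inV1 cs k.1 = true := Iff.rfl

theorem card_CM : Nat.card CM = 16 := by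
  rw [← cm_cards.1, ← Nat.card_eq_fintype_card]
  exact Nat.card_congr (Equiv.subtypeEquivRight fun m => mem_centralizer_singleton_iff)

theorem card_V1 (cs : Bool) : Nat.card (V1 cs) = 8 := by
  rw [← (cm_cards.2 cs), ← Nat.card_eq_fintype_card]
  exact Nat.card_congr
    ⟨fun k => ⟨k.1.1, k.2⟩, fun m => ⟨⟨m.1, mem_centralizer_singleton_iff.2 (mem_v1_comm m.2)⟩, m.2⟩,
      fun _ => rfl, fun _ => rfl⟩

variable {G : Type*} [Group G] [Finite G]

namespace Sit

variable (W : Sit G)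

/-- the centraliser -/
abbrev C : Subgroup G := centralizer ({W.u} : Set G)

theorem mem_C {x : G} : x ∈ W.C ↔ x * W.u = W.u * x := mem_centralizer_singleton_iff

theorem φ_mem_C {m : M} (h : m * mu = mu * m) : W.φ m ∈ W.C := by
  rw [W.mem_C, u, ← map_mul, h, map_mul]

theorem of_φ_mem_C {m : M} (h : W.φ m ∈ W.C) : m * mu = mu * m :=
  W.inj (by rw [map_mul, map_mul]; exact W.mem_C.1 h)

/-- the second involution as an element of its centraliser -/
def uC : W.C := ⟨W.u, W.mem_C.2 rfl⟩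

theorem uC_sq : W.uC * W.uC = 1 := Subtype.ext (Cfsg.Lib.InvolCalc.sq_of_order_two W.u_order)

theorem uC_ne : W.uC ≠ 1 := fun e => Cfsg.Lib.InvolCalc.ne_one_of_order_two W.u_order (congrArg Subtype.val e)

theorem uC_comm (x : W.C) : x * W.uC = W.uC * x := Subtype.ext (W.mem_C.1 x.2)

/-- the subgroup generated by it -/
def Z : Subgroup W.C := zpowers W.uC

instance Z_normal : W.Z.Normal := ⟨by
  rintro x ⟨i, rfl⟩ g
  refine ⟨i, ?_⟩
  show W.uC ^ i = g * W.uC ^ i * g⁻¹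
  rw [((show Commute g W.uC from W.uC_comm g).zpow_right i).eq, mul_inv_cancel_right]⟩

theorem mem_Z {x : W.C} : x ∈ W.Z ↔ x = 1 ∨ x = W.uC := by
  constructor
  · rintro ⟨i, rfl⟩
    show W.uC ^ i = 1 ∨ W.uC ^ i = W.uC
    rcases Int.even_or_odd i with ⟨k, rfl⟩ | ⟨k, rfl⟩
    · left; rw [zpow_add, ← (Commute.refl W.uC).mul_zpow, W.uC_sq, one_zpow]
    · right; rw [zpow_add, two_mul, zpow_add, ← (Commute.refl W.uC).mul_zpow, W.uC_sq, one_zpow, zpow_one, one_mul]
  · rintro (rfl | rfl)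
    · exact one_mem _
    · exact mem_zpowers _

theorem card_Z : Nat.card W.Z = 2 := by
  rw [Z, Nat.card_zpowers, Cfsg.Lib.InvolCalc.order_two_of_mul_self W.uC_sq W.uC_ne]

/-- the quotient -/
abbrev Q := W.C ⧸ W.Z

theorem mk_eq {x y : W.C} (h : (x : W.Q) = y) : y = x ∨ y = x * W.uC := by
  rcases W.mem_Z.1 (QuotientGroup.eq.1 h) with e | e
  · exact Or.inl (inv_mul_eq_one.1 e).symm
  · exact Or.inr (inv_mul_eq_iff_eq_mul.1 e)

theorem mk_uC : ((W.uC : W.C) : W.Q) = 1 := (QuotientGroup.eq_one_iff _).2 (mem_zpowers _)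

theorem mk_mul_uC (x : W.C) : ((x * W.uC : W.C) : W.Q) = x := by rw [QuotientGroup.mk_mul, W.mk_uC, mul_one]

/-- the map from the model -/
def ψ : CM →* W.C where
  toFun k := ⟨W.φ k.1, W.φ_mem_C (mem_centralizer_singleton_iff.1 k.2)⟩
  map_one' := Subtype.ext (map_one W.φ)
  map_mul' := fun a b => Subtype.ext (map_mul W.φ a.1 b.1)

theorem ψ_inj : Function.Injective W.ψ := fun a b h => Subtype.ext (W.inj (congrArg Subtype.val h))

/-- the second involution of the model in its centraliser -/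
def muC : CM := ⟨mu, mem_centralizer_singleton_iff.2 rfl⟩

theorem ψ_mu : W.ψ muC = W.uC := rfl

theorem T_conj {x : G} (h : W.IsT x) (g : G) : W.IsT (g * x * g⁻¹) := h.trans (isConj_iff.2 ⟨g, rfl⟩)

theorem isT_tb {m : M} (h : W.IsT (W.φ m)) : isTB W.cs m = true := by
  obtain ⟨h1, h2⟩ := W.φ_invol (W.isT_order h)
  exact (W.tb m h1 h2).1 h

theorem isT_of_tb {m : M} (h : isTB W.cs m = true) : W.IsT (W.φ m) := by
  obtain ⟨h1, h2⟩ := lab_zero m (fun e => by simp [isTB, e] at h)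
  exact (W.tb m h1 h2).2 h

theorem not_T_of_ub {m : M} (h : isUB W.cs m = true) : ¬ W.IsT (W.φ m) := fun h' => by
  have := W.isT_tb h'
  rw [((isUB_iff _ _).1 h).2] at this
  exact Bool.false_ne_true this

theorem P0_normalizer {g : W.C} (hg : g ∈ normalizer (W.ψ.range : Set W.C)) : g ∈ W.ψ.range := by
  have hz : W.ψ ⟨tau, mem_centralizer_singleton_iff.2 mu_props.2.2⟩ ∈ W.ψ.range := ⟨_, rfl⟩
  obtain ⟨k, hk⟩ := (mem_normalizer_iff.1 hg _).1 hz
  have hkG : W.φ k.1 = (g : G) * W.t * (g : G)⁻¹ := by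
    have := congrArg Subtype.val hk
    simpa [ψ, W.map_tau] using this
  have hkT : W.IsT (W.φ k.1) := hkG ▸ isConj_iff.2 ⟨(g : G), rfl⟩
  have hcen : ∀ y : M, y * mu = mu * y → k.1 * y = y * k.1 := fun y hy => by
    obtain ⟨y', hy'⟩ : g⁻¹ * W.ψ ⟨y, mem_centralizer_singleton_iff.2 hy⟩ * g ∈ W.ψ.range := by
      simpa using (mem_normalizer_iff.1 (inv_mem hg) _).1
        (show W.ψ ⟨y, mem_centralizer_singleton_iff.2 hy⟩ ∈ W.ψ.range from ⟨_, rfl⟩)
    have e : W.φ y = (g : G) * W.φ y'.1 * (g : G)⁻¹ := by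
      have := congrArg Subtype.val hy'
      simp [ψ] at this
      rw [this]; group
    apply W.inj
    rw [map_mul, map_mul, hkG, e]
    calc (g : G) * W.t * (g : G)⁻¹ * ((g : G) * W.φ y'.1 * (g : G)⁻¹)
        = (g : G) * (W.t * W.φ y'.1) * (g : G)⁻¹ := by group
      _ = (g : G) * (W.φ y'.1 * W.t) * (g : G)⁻¹ := by rw [W.φ_comm]
      _ = _ := by group
  have hkt := cm_center W.cs k.1 (mem_centralizer_singleton_iff.1 k.2) hcen (W.isT_tb hkT)
  rw [hkt, W.map_tau, eq_mul_inv_iff_mul_eq] at hkG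
  obtain ⟨m, hm⟩ := W.mem_iff.1 hkG.symm
  exact ⟨⟨m, mem_centralizer_singleton_iff.2 (W.of_φ_mem_C (hm ▸ g.2))⟩, Subtype.ext hm⟩

/-- a Sylow subgroup of the centraliser -/
def P0 : Sylow 2 W.C :=
  { toSubgroup := W.ψ.range
    isPGroup' := (IsPGroup.of_card (n := 4) (by rw [card_CM]; norm_num : Nat.card CM = 2 ^ 4)).of_surjective
      W.ψ.rangeRestrict W.ψ.rangeRestrict_surjective
    is_maximal' := fun {R} hR hle => by
      haveI : Fact (Nat.Prime 2) := ⟨Nat.prime_two⟩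
      haveI := hR.isNilpotent
      by_contra hne
      have hlt : W.ψ.range.subgroupOf R < ⊤ :=
        lt_of_le_of_ne le_top fun e => hne (le_antisymm (subgroupOf_eq_top.1 e) hle)
      obtain ⟨r, hr, hr'⟩ := SetLike.exists_of_lt (Group.normalizerCondition_of_isNilpotent _ hlt)
      refine hr' (mem_subgroupOf.2 (W.P0_normalizer (mem_normalizer_iff.2 fun x => ?_)))
      constructor
      · intro hx
        exact (mem_normalizer_iff.1 hr ⟨x, hle hx⟩).1 hx
      · intro hx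
        have hxR : x ∈ R := by
          have := mul_mem (mul_mem (inv_mem r.2) (hle hx)) r.2
          simpa [mul_assoc] using this
        exact (mem_normalizer_iff.1 hr ⟨x, hxR⟩).2 hx }

/-- the map to the quotient -/
def χ : CM →* W.Q := (QuotientGroup.mk' W.Z).comp W.ψ

theorem χ_apply (k : CM) : W.χ k = ((W.ψ k : W.C) : W.Q) := rfl

/-- the Sylow subgroup of the quotient -/
noncomputable def Pq : Sylow 2 W.Q := W.P0.mapSurjective (QuotientGroup.mk'_surjective W.Z)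

theorem Pq_eq : (W.Pq : Subgroup W.Q) = W.χ.range := by
  rw [Pq, Sylow.coe_mapSurjective, χ, MonoidHom.range_comp]
  rfl

/-- the four-group -/
def Vq : Subgroup W.Q := (V1 W.cs).map W.χ

theorem Vq_le : W.Vq ≤ (W.Pq : Subgroup W.Q) := by
  rw [W.Pq_eq]; exact map_le_range _ _

theorem χ_ker {k : CM} (h : W.χ k = 1) : k = 1 ∨ k = muC := by
  rcases W.mem_Z.1 ((QuotientGroup.eq_one_iff _).1 h) with e | e
  · exact Or.inl (W.ψ_inj (e.trans (map_one _).symm))
  · exact Or.inr (W.ψ_inj (e.trans W.ψ_mu.symm))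

theorem card_image (H : Subgroup CM) (hmu : muC ∈ H) : Nat.card (H.map W.χ) * 2 = Nat.card H := by
  set f := W.χ.comp H.subtype
  have hr : f.range = H.map W.χ := by rw [MonoidHom.range_comp, range_subtype]
  have hk : Nat.card f.ker = 2 := by
    rw [Nat.card_eq_two_iff]
    refine ⟨1, ⟨⟨muC, hmu⟩, W.mk_uC⟩, fun e => mu_props.2.1 ?_, Set.eq_univ_of_forall fun x => ?_⟩
    · exact (congrArg (fun z : f.ker => z.1.1.1) e).symm
    · rcases W.χ_ker (show W.χ x.1.1 = 1 from x.2) with e | e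
      · exact Or.inl (Subtype.ext (Subtype.ext e))
      · exact Or.inr (Subtype.ext (Subtype.ext e))
  rw [← hr, ← Subgroup.index_ker, mul_comm, ← hk, card_mul_index]

theorem card_Vq : Nat.card W.Vq = 4 := by
  have h := W.card_image (V1 W.cs) (v1_closed W.cs).2.1
  rw [card_V1] at h
  show Nat.card ((V1 W.cs).map W.χ) = 4
  omega

theorem card_Pq : Nat.card (W.Pq : Subgroup W.Q) = 8 := by
  have h := W.card_image ⊤ (mem_top _)
  rw [Subgroup.card_top, card_CM, ← MonoidHom.range_eq_map] at h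
  rw [W.Pq_eq]
  omega

theorem Vq_relIndex : W.Vq.relIndex (W.Pq : Subgroup W.Q) = 2 := by
  have h := card_mul_index (W.Vq.subgroupOf (W.Pq : Subgroup W.Q))
  rw [Nat.card_congr (subgroupOfEquivOfLe W.Vq_le).toEquiv, W.card_Vq, W.card_Pq] at h
  show (W.Vq.subgroupOf (W.Pq : Subgroup W.Q)).index = 2
  omega

theorem into_P0 {x : W.C} {n : ℕ} (h : x ^ 2 ^ n = 1) : ∃ (c : W.C) (k : CM), W.ψ k = c * x * c⁻¹ := by
  haveI : Fact (Nat.Prime 2) := ⟨Nat.prime_two⟩
  obtain ⟨j, -, hj⟩ := (Nat.dvd_prime_pow Nat.prime_two).1 (orderOf_dvd_of_pow_eq_one h)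
  have hK : IsPGroup 2 (zpowers x) := IsPGroup.of_card (n := j) (by rw [Nat.card_zpowers, hj])
  obtain ⟨P, hP⟩ := hK.exists_le_sylow
  obtain ⟨c, hc⟩ := MulAction.exists_smul_eq W.C P W.P0
  refine ⟨c, ?_⟩
  have h' : c * x * c⁻¹ ∈ W.ψ.range := by
    have e : W.ψ.range = ((c • P : Sylow 2 W.C) : Subgroup W.C) := by rw [hc]; rfl
    rw [e, Sylow.coe_subgroup_smul, Subgroup.mem_pointwise_smul_iff_inv_smul_mem]
    simpa [MulAut.smul_def, mul_assoc] using hP (mem_zpowers x)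
  exact h'

theorem no_root (x : W.C) : x * x ≠ W.uC := fun h => by
  obtain ⟨c, k, hk⟩ := W.into_P0 (x := x) (n := 2) (by
    rw [show (2 : ℕ) ^ 2 = 2 + 2 from rfl, pow_add, pow_two, h, W.uC_sq])
  refine cm_no_root k.1 (mem_centralizer_singleton_iff.1 k.2) (W.inj ?_)
  have e : W.ψ (k * k) = W.ψ muC := by
    rw [map_mul, hk, W.ψ_mu]
    calc c * x * c⁻¹ * (c * x * c⁻¹) = c * (x * x) * c⁻¹ := by group
      _ = W.uC := by rw [h, W.uC_comm, mul_inv_cancel_right]
  exact congrArg Subtype.val e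

theorem T_lift_not {x : W.C} (hx : W.IsT x) : ¬ W.IsT (x * W.uC : W.C) := fun h' => by
  have ho := W.isT_order hx
  obtain ⟨c, k, hk⟩ := W.into_P0 (x := x) (n := 1) (by
    rw [pow_one, pow_two]; exact Subtype.ext (Cfsg.Lib.InvolCalc.sq_of_order_two ho))
  have hkG : W.φ k.1 = (c : G) * x * (c : G)⁻¹ := congrArg Subtype.val hk
  have hT := W.isT_tb (hkG ▸ W.T_conj hx c)
  obtain ⟨-, -, -, h4⟩ := v1_of_T W.cs k.1 (mem_centralizer_singleton_iff.1 k.2) hT
  have h2 : W.IsT (W.φ (k.1 * mu)) := by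
    rw [map_mul, hkG]
    have e : (c : G) * ((x : G) * W.u) * (c : G)⁻¹ = (c : G) * x * (c : G)⁻¹ * W.φ mu := by
      show _ = (c : G) * x * (c : G)⁻¹ * W.u
      rw [mul_assoc ((c : G) * x) (c : G)⁻¹ W.u, show (c : G)⁻¹ * W.u = W.u * (c : G)⁻¹ from
        ((show Commute (c : G) W.u from W.mem_C.1 c.2).inv_left).eq]
      group
    rw [← e]
    exact W.T_conj h' c
  rw [W.isT_tb h2] at h4
  exact Bool.noConfusion h4

theorem wbar_no_conj (g : W.Q) :
    g⁻¹ * W.χ ⟨wE W.cs, mem_centralizer_singleton_iff.2 (wE_spec W.cs).1⟩ * g ∉ W.Vq := by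
  intro h
  obtain ⟨hw1, hw2, hw3, -⟩ := wE_spec W.cs
  set w : CM := ⟨wE W.cs, mem_centralizer_singleton_iff.2 hw1⟩
  obtain ⟨k, hk, hkg⟩ := h
  obtain ⟨c, rfl⟩ := QuotientGroup.mk_surjective g
  have hk1 : W.χ k ≠ 1 := fun e => by
    rw [hkg] at e
    have hw0 : W.χ w = 1 := by
      calc W.χ w = (c : W.Q) * ((c : W.Q)⁻¹ * W.χ w * c) * (c : W.Q)⁻¹ := by group
        _ = 1 := by rw [e]; group
    rcases W.χ_ker hw0 with e | e <;> have := congrArg Subtype.val e <;> change wE W.cs = _ at this <;>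
      rw [this] at hw2
    · exact Bool.noConfusion ((v1_closed W.cs).1.symm.trans hw2)
    · exact Bool.noConfusion ((v1_closed W.cs).2.1.symm.trans hw2)
  obtain ⟨k', hk', hkT⟩ : ∃ k' : CM, W.χ k' = W.χ k ∧ isTB W.cs k'.1 = true := by
    rcases v1_split W.cs k.1 hk (fun e => hk1 (by rw [show k = 1 from Subtype.ext e, map_one]))
      (fun e => hk1 (by rw [show k = muC from Subtype.ext e]; exact W.mk_uC)) with ⟨h1, -⟩ | ⟨-, h1⟩
    · exact ⟨k, rfl, h1⟩
    · exact ⟨k * muC, by rw [map_mul, show W.χ muC = 1 from W.mk_uC, mul_one], h1⟩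
  have he : ((c * W.ψ k' * c⁻¹ : W.C) : W.Q) = (W.ψ w : W.C) := by
    rw [QuotientGroup.mk_mul, QuotientGroup.mk_mul, QuotientGroup.mk_inv, ← W.χ_apply, ← W.χ_apply, hk', hkg]
    group
  have hT : W.IsT (c * W.ψ k' * c⁻¹ : W.C) := W.T_conj (W.isT_of_tb hkT) c
  have hwT : isTB W.cs (wE W.cs) = true ∨ isTB W.cs (wE W.cs * mu) = true := by
    rcases W.mk_eq he with e | e
    · left
      refine W.isT_tb ?_
      show W.IsT ((W.ψ w : W.C) : G)
      rw [e]; exact hT
    · right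
      have e2 : c * W.ψ k' * c⁻¹ = W.ψ w * W.uC := by
        rw [e, mul_assoc (c * W.ψ k' * c⁻¹) W.uC W.uC, W.uC_sq, mul_one]
      refine W.isT_tb ?_
      rw [map_mul]
      show W.IsT ((W.ψ w * W.uC : W.C) : G)
      rw [← e2]; exact hT
  have : inV1 W.cs (wE W.cs) = true := by
    simp only [inV1, Bool.and_eq_true, beq_iff_eq, Bool.or_eq_true]
    exact ⟨hw1, hwT.elim (fun h => Or.inl (Or.inr h)) (fun h => Or.inr h)⟩
  rw [hw2] at this
  exact Bool.noConfusion this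

theorem exists_half : ∃ Mx : Subgroup W.Q, Mx.Normal ∧ Mx.index = 2 ∧
    W.χ ⟨wE W.cs, mem_centralizer_singleton_iff.2 (wE_spec W.cs).1⟩ ∉ Mx ∧
    ∀ x : W.C, W.IsT x → (x : W.Q) ∈ Mx := by
  obtain ⟨hw1, hw2, hw3, -⟩ := wE_spec W.cs
  set w : CM := ⟨wE W.cs, mem_centralizer_singleton_iff.2 hw1⟩
  have hne : W.χ w ≠ 1 := fun e => W.wbar_no_conj 1 (by rw [inv_one, one_mul, mul_one, e]; exact one_mem _)
  have ho : orderOf (W.χ w) = 2 := Cfsg.Lib.InvolCalc.order_two_of_mul_self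
    (by rw [← map_mul, show w * w = 1 from Subtype.ext hw3, map_one]) hne
  obtain ⟨Mx, h1, h2, h3, h4⟩ := Cfsg.Lib.AltEightType.transfer_split W.Pq W.Vq W.Vq_le W.Vq_relIndex ho W.wbar_no_conj
  refine ⟨Mx, h1, h2, h3, fun x hx => h4 _ ?_ fun g hg => ?_⟩
  · rw [← QuotientGroup.mk_mul]
    rw [show x * x = 1 from Subtype.ext (Cfsg.Lib.InvolCalc.sq_of_order_two (W.isT_order hx)), QuotientGroup.mk_one]
  · obtain ⟨c, rfl⟩ := QuotientGroup.mk_surjective g
    rw [W.Pq_eq] at hg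
    obtain ⟨k, hk⟩ := hg
    have e : ((c⁻¹ * x * c : W.C) : W.Q) = (W.ψ k : W.C) := hk.symm
    have hT : W.IsT (c⁻¹ * x * c : W.C) := by
      have := W.T_conj hx (c : G)⁻¹
      rwa [inv_inv] at this
    obtain ⟨k', hk', hkk⟩ : ∃ k' : CM, W.ψ k' = c⁻¹ * x * c ∧ W.χ k' = W.χ k := by
      rcases W.mk_eq e with e' | e'
      · exact ⟨k, e', rfl⟩
      · exact ⟨k * muC, by rw [map_mul, e', W.ψ_mu, mul_assoc, W.uC_sq, mul_one],
          by rw [map_mul, show W.χ muC = 1 from W.mk_uC, mul_one]⟩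
    refine ⟨k', ?_, hkk.trans hk⟩
    exact (v1_of_T W.cs k'.1 (mem_centralizer_singleton_iff.1 k'.2)
      (W.isT_tb (show W.IsT ((W.ψ k' : W.C) : G) by rw [hk']; exact hT))).1

/-- the normal subgroup of index two -/
noncomputable def Mx : Subgroup W.Q := W.exists_half.choose

theorem Mx_spec : W.Mx.Normal ∧ W.Mx.index = 2 ∧
    W.χ ⟨wE W.cs, mem_centralizer_singleton_iff.2 (wE_spec W.cs).1⟩ ∉ W.Mx ∧
    ∀ x : W.C, W.IsT x → (x : W.Q) ∈ W.Mx := W.exists_half.choose_spec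

instance Mx_normal : W.Mx.Normal := W.Mx_spec.1

theorem Vq_le_Mx : W.Vq ≤ W.Mx := by
  rintro _ ⟨k, hk, rfl⟩
  by_cases e1 : k.1 = 1
  · rw [show k = 1 from Subtype.ext e1, map_one]; exact one_mem _
  by_cases e2 : k.1 = mu
  · rw [show k = muC from Subtype.ext e2, show W.χ muC = 1 from W.mk_uC]; exact one_mem _
  rcases v1_split W.cs k.1 hk e1 e2 with ⟨h1, -⟩ | ⟨-, h1⟩
  · exact W.Mx_spec.2.2.2 (W.ψ k) (W.isT_of_tb h1)
  · have := W.Mx_spec.2.2.2 (W.ψ k * W.uC) (by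
      have := W.isT_of_tb h1
      rw [map_mul] at this
      exact this)
    rwa [W.mk_mul_uC] at this

theorem Pq_inf {k : CM} (h : W.χ k ∈ W.Mx) : inV1 W.cs k.1 = true := by
  by_contra hk
  obtain ⟨hw1, -, -, hw4⟩ := wE_spec W.cs
  have hv := hw4 k.1 (mem_centralizer_singleton_iff.1 k.2) (Bool.eq_false_iff.2 hk)
  have hm : W.χ (k * ⟨wE W.cs, mem_centralizer_singleton_iff.2 hw1⟩) ∈ W.Mx := by
    generalize wE W.cs = z at hv hw1
    refine W.Vq_le_Mx (mem_map_of_mem W.χ ?_)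
    rw [mem_V1, Subgroup.coe_mul]
    exact hv
  rw [map_mul] at hm
  exact W.Mx_spec.2.2.1 (by simpa using W.Mx.mul_mem (W.Mx.inv_mem h) hm)

/-- every involution of the subgroup lifts to both classes -/
theorem lift_spec {v : W.Q} (hv : v ∈ W.Mx) (h2 : v * v = 1) (h1 : v ≠ 1) :
    ∃ x : W.C, (x : W.Q) = v ∧ W.IsT x ∧ IsConj W.u (x * W.uC : W.C) := by
  obtain ⟨x0, rfl⟩ := QuotientGroup.mk_surjective v
  have h4 : x0 ^ 2 ^ 2 = 1 := by
    have := W.mem_Z.1 ((QuotientGroup.eq_one_iff (x0 * x0)).1 h2)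
    rcases this with e | e <;>
      rw [show (2 : ℕ) ^ 2 = 2 + 2 from rfl, pow_add, pow_two, e] <;> simp [W.uC_sq]
  obtain ⟨c, k, hk⟩ := W.into_P0 h4
  have hkq : W.χ k = (c : W.Q) * x0 * (c : W.Q)⁻¹ := by
    rw [W.χ_apply, hk, QuotientGroup.mk_mul, QuotientGroup.mk_mul, QuotientGroup.mk_inv]
  have hk1 : inV1 W.cs k.1 = true := W.Pq_inf (hkq ▸ W.Mx_normal.conj_mem _ hv _)
  have hne : k.1 ≠ 1 ∧ k.1 ≠ mu := by
    have hχ : W.χ k ≠ 1 := fun e => h1 (conj_eq_one_iff.1 (hkq.symm.trans e))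
    exact ⟨fun e => hχ (by rw [show k = 1 from Subtype.ext e, map_one]),
      fun e => hχ (by rw [show k = muC from Subtype.ext e]; exact W.mk_uC)⟩
  obtain ⟨k', hk', hT, hU⟩ : ∃ k' : CM, W.χ k' = W.χ k ∧ isTB W.cs k'.1 = true ∧ isUB W.cs (k'.1 * mu) = true := by
    rcases v1_split W.cs k.1 hk1 hne.1 hne.2 with ⟨a, b⟩ | ⟨a, b⟩
    · exact ⟨k, rfl, a, b⟩
    · exact ⟨k * muC, by rw [map_mul, show W.χ muC = 1 from W.mk_uC, mul_one], b, by
        show isUB W.cs (k.1 * mu * mu) = true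
        rwa [mul_assoc, mu_props.1, mul_one]⟩
  refine ⟨c⁻¹ * W.ψ k' * c, ?_, ?_, ?_⟩
  · rw [QuotientGroup.mk_mul, QuotientGroup.mk_mul, QuotientGroup.mk_inv, ← W.χ_apply, hk', hkq]
    group
  · have := W.T_conj (W.isT_of_tb hT) (c : G)⁻¹
    rwa [inv_inv] at this
  · have hu' : IsConj W.u (W.φ (k'.1 * mu)) := by
      obtain ⟨a, b⟩ := lab_zero _ ((isUB_iff _ _).1 hU).1
      exact (W.ub a b).2 hU
    refine hu'.trans (isConj_iff.2 ⟨(c : G)⁻¹, ?_⟩)
    rw [inv_inv, map_mul]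
    show (c : G)⁻¹ * (W.φ k'.1 * W.u) * c = (c : G)⁻¹ * W.φ k'.1 * c * W.u
    rw [mul_assoc, mul_assoc (W.φ k'.1) W.u, ← W.mem_C.1 c.2]
    group

theorem card_Mx_mul : 2 * Nat.card W.Mx = Nat.card W.Q := by
  rw [← W.Mx_spec.2.1, mul_comm, card_mul_index]

theorem card_C : Nat.card W.C = 4 * Nat.card W.Mx := by
  have h := card_eq_card_quotient_mul_card_subgroup W.Z
  rw [W.card_Z, ← W.card_Mx_mul] at h
  omega

theorem cent_two {x : W.C} (hx : W.IsT x) : IsPGroup 2 (centralizer ({x} : Set W.C)) := by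
  obtain ⟨g, hg⟩ := isConj_iff.1 hx
  obtain ⟨k, hk⟩ := W.mem_iff.1 (show g⁻¹ * W.u * g * W.t = W.t * (g⁻¹ * W.u * g) by
    have hxu : (x : G) * W.u = W.u * x := W.mem_C.1 x.2
    rw [show W.t = g⁻¹ * (x : G) * g by rw [← hg]; group]
    calc g⁻¹ * W.u * g * (g⁻¹ * (x : G) * g) = g⁻¹ * (W.u * x) * g := by group
      _ = g⁻¹ * (x * W.u) * g := by rw [hxu]
      _ = _ := by group)
  have hkU : isUB W.cs k = true := by
    have ho : orderOf (W.φ k) = 2 := by
      rw [hk, ← W.u_order]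
      simpa using MulEquiv.orderOf_eq (MulAut.conj g⁻¹) W.u
    obtain ⟨a, b⟩ := W.φ_invol ho
    refine (W.ub a b).1 ?_
    rw [hk]
    exact isConj_iff.2 ⟨g⁻¹, by rw [inv_inv]⟩
  have hf : ∀ y : centralizer ({x} : Set W.C), ∃ m : centralizer ({k} : Set M), W.φ m.1 = g⁻¹ * (y.1 : G) * g := by
    intro y
    have hyx : (y.1 : G) * x = x * y.1 := congrArg Subtype.val (mem_centralizer_singleton_iff.1 y.2)
    obtain ⟨m, hm⟩ := W.mem_iff.1 (show g⁻¹ * (y.1 : G) * g * W.t = W.t * (g⁻¹ * (y.1 : G) * g) by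
      rw [show W.t = g⁻¹ * (x : G) * g by rw [← hg]; group]
      calc g⁻¹ * (y.1 : G) * g * (g⁻¹ * (x : G) * g) = g⁻¹ * ((y.1 : G) * x) * g := by group
        _ = g⁻¹ * (x * (y.1 : G)) * g := by rw [hyx]
        _ = _ := by group)
    refine ⟨⟨m, mem_centralizer_singleton_iff.2 (W.inj ?_)⟩, hm⟩
    rw [map_mul, map_mul, hm, hk]
    calc g⁻¹ * (y.1 : G) * g * (g⁻¹ * W.u * g) = g⁻¹ * ((y.1 : G) * W.u) * g := by group
      _ = g⁻¹ * (W.u * (y.1 : G)) * g := by rw [W.mem_C.1 y.1.2]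
      _ = _ := by group
  choose f hf using hf
  have hfm : ∀ a b, f (a * b) = f a * f b := fun a b => Subtype.ext (W.inj (by
    rw [hf, Subgroup.coe_mul, Subgroup.coe_mul, Subgroup.coe_mul, map_mul, hf, hf]; group))
  refine IsPGroup.of_injective (G := centralizer ({k} : Set M)) ?_ (MonoidHom.mk' f hfm) fun a b h => ?_
  · have hc : Nat.card (centralizer ({k} : Set M)) = Fintype.card (centM k) := by
      rw [← Nat.card_eq_fintype_card]
      exact Nat.card_congr (Equiv.subtypeEquivRight fun m => mem_centralizer_singleton_iff)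
    rcases cent_ub W.cs k hkU with e | e
    · exact IsPGroup.of_card (n := 4) (by rw [hc, e]; norm_num)
    · exact IsPGroup.of_card (n := 3) (by rw [hc, e]; norm_num)
  · have := (hf a).symm.trans ((congrArg (fun z => W.φ z.1) h).trans (hf b))
    exact Subtype.ext (Subtype.ext (mul_left_cancel (mul_right_cancel this)))

theorem cent_bar {x : W.C} (hx : W.IsT x) {y : W.C} (h : Commute (y : W.Q) x) : y * x = x * y := by
  have e : ((x * y : W.C) : W.Q) = ((y * x : W.C) : W.Q) := by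
    rw [QuotientGroup.mk_mul, QuotientGroup.mk_mul, h.eq]
  rcases W.mk_eq e with e' | e'
  · exact e'
  · exfalso
    refine W.T_lift_not hx ?_
    have h2 : (y * x * y⁻¹ : W.C) = x * W.uC := by
      rw [e', mul_assoc x y W.uC, W.uC_comm, ← mul_assoc, mul_inv_cancel_right]
    rw [← h2]
    exact W.T_conj hx y

theorem four_hyp : Nat.card (W.Vq.subgroupOf W.Mx) = 4 ∧ (∀ v ∈ W.Vq.subgroupOf W.Mx, v * v = 1) ∧
    ¬ 2 ∣ (W.Vq.subgroupOf W.Mx).index ∧
    ∀ v ∈ W.Vq.subgroupOf W.Mx, v ≠ 1 → ∀ y : W.Mx, Commute y v → y ∈ W.Vq.subgroupOf W.Mx := by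
  haveI : Fact (Nat.Prime 2) := ⟨Nat.prime_two⟩
  set V := W.Vq.subgroupOf W.Mx with hV
  have h4 : Nat.card V = 4 := by
    rw [Nat.card_congr (subgroupOfEquivOfLe W.Vq_le_Mx).toEquiv, W.card_Vq]
  have hsq : ∀ v ∈ V, v * v = 1 := by
    intro v hv
    obtain ⟨k, hk, hkv⟩ := mem_subgroupOf.1 hv
    refine Subtype.ext ?_
    show (v : W.Q) * v = 1
    rw [← hkv, ← map_mul, show k * k = 1 from Subtype.ext (v1_sq W.cs k.1 hk), map_one]
  have hodd : ¬ 2 ∣ V.index := fun h2 => by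
    have hQ : (W.Pq : Subgroup W.Q).index * 8 = Nat.card W.Q := by rw [← W.card_Pq, mul_comm, card_mul_index]
    have hM := card_mul_index V
    rw [h4] at hM
    have := W.card_Mx_mul
    refine W.Pq.not_dvd_index ?_
    obtain ⟨j, hj⟩ := h2
    exact ⟨j, by omega⟩
  have hcent : ∀ v ∈ V, v ≠ 1 → ∀ y : W.Mx, Commute y v → y ∈ V := by
    intro v hv hv1 y hyv
    obtain ⟨x, hxv, hxT, -⟩ := W.lift_spec v.2 (congrArg Subtype.val (hsq v hv)) (fun e => hv1 (Subtype.ext e))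
    have hR : IsPGroup 2 (centralizer ({v} : Set W.Mx)) := by
      intro z
      obtain ⟨c, hc⟩ := QuotientGroup.mk_surjective (z.1.1 : W.Q)
      have hcx := W.cent_bar hxT (y := c) (by
        rw [hc, hxv]
        exact congrArg Subtype.val (mem_centralizer_singleton_iff.1 z.2))
      obtain ⟨n, hn⟩ := W.cent_two hxT ⟨c, mem_centralizer_singleton_iff.2 hcx⟩
      refine ⟨n, Subtype.ext (Subtype.ext ?_)⟩
      show (z.1.1 : W.Q) ^ 2 ^ n = 1
      rw [← hc, ← QuotientGroup.mk_pow, show c ^ 2 ^ n = 1 from congrArg Subtype.val hn, QuotientGroup.mk_one]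
    have hVle : V ≤ centralizer ({v} : Set W.Mx) := fun a ha => mem_centralizer_singleton_iff.2 (by
      have hab : (a * v)⁻¹ = a * v := inv_eq_of_mul_eq_one_right (hsq _ (mul_mem ha hv))
      rw [← hab, mul_inv_rev, inv_eq_of_mul_eq_one_right (hsq a ha), inv_eq_of_mul_eq_one_right (hsq v hv)])
    have heq := ((IsPGroup.of_card (n := 2) (by rw [h4]; norm_num) : IsPGroup 2 V).toSylow hodd).is_maximal' hR hVle
    have : y ∈ centralizer ({v} : Set W.Mx) := mem_centralizer_singleton_iff.2 hyv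
    rw [heq] at this
    exact this
  exact ⟨h4, hsq, hodd, hcent⟩

/-- the order of the subgroup and the number of pairs of involutions with odd product -/
theorem Mx_cases : (Nat.card W.Mx = 4 ∨ Nat.card W.Mx = 12 ∨ Nat.card W.Mx = 60) ∧
    Nat.card {p : W.Mx × W.Mx // p.1 * p.1 = 1 ∧ p.1 ≠ 1 ∧ p.2 * p.2 = 1 ∧ (p.1 * p.2) ^ 15 = 1} =
      (if Nat.card W.Mx = 60 then 195 else 3) := by
  classical
  haveI : Fact (Nat.Prime 2) := ⟨Nat.prime_two⟩
  set V := W.Vq.subgroupOf W.Mx with hV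
  obtain ⟨h4, hsq, hodd, hcent⟩ := W.four_hyp
  have hsmall : ∀ hn : ∀ a : W.Mx, a * a = 1 → a ∈ V,
      Nat.card {p : W.Mx × W.Mx // p.1 * p.1 = 1 ∧ p.1 ≠ 1 ∧ p.2 * p.2 = 1 ∧ (p.1 * p.2) ^ 15 = 1} = 3 := by
    intro hn
    have he : ∀ a b : W.Mx, a * a = 1 → b * b = 1 → (a * b) ^ 15 = 1 → b = a := by
      intro a b ha hb h15
      have hab := hsq _ (mul_mem (hn a ha) (hn b hb))
      rw [show 15 = 2 * 7 + 1 from rfl, pow_succ, pow_mul, pow_two, hab, one_pow, one_mul] at h15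
      rw [eq_inv_of_mul_eq_one_right h15, inv_eq_of_mul_eq_one_right ha]
    have e : {p : W.Mx × W.Mx // p.1 * p.1 = 1 ∧ p.1 ≠ 1 ∧ p.2 * p.2 = 1 ∧ (p.1 * p.2) ^ 15 = 1} ≃
        {a : V // a ≠ 1} :=
      { toFun := fun p => ⟨⟨p.1.1, hn _ p.2.1⟩, fun h => p.2.2.1 (congrArg Subtype.val h)⟩
        invFun := fun a => ⟨(a.1.1, a.1.1), hsq _ a.1.2, fun h => a.2 (Subtype.ext h), hsq _ a.1.2, by
          show (a.1.1 * a.1.1) ^ 15 = 1
          rw [hsq _ a.1.2, one_pow]⟩
        left_inv := fun p => Subtype.ext (Prod.ext rfl (he _ _ p.2.1 p.2.2.2.1 p.2.2.2.2).symm)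
        right_inv := fun a => rfl }
    rw [Nat.card_congr e]
    letI := Fintype.ofFinite V
    rw [Nat.card_eq_fintype_card, Fintype.card_subtype_compl, Fintype.card_subtype_eq, ← Nat.card_eq_fintype_card, h4]
  rcases four_cases h4 hsq hodd hcent with htop | ⟨h12, hn⟩ | ⟨⟨e⟩⟩
  · have hc : Nat.card W.Mx = 4 := by rw [← h4, htop, Subgroup.card_top]
    refine ⟨Or.inl hc, ?_⟩
    rw [if_neg (by omega)]
    exact hsmall fun a _ => (show V = ⊤ from htop).symm ▸ mem_top a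
  · refine ⟨Or.inr (Or.inl h12), ?_⟩
    rw [if_neg (by omega)]
    refine hsmall fun a ha => ?_
    by_cases ha1 : a = 1
    · rw [ha1]; exact one_mem _
    have hK : IsPGroup 2 (zpowers a) :=
      IsPGroup.of_card (n := 1) (by rw [Nat.card_zpowers, Cfsg.Lib.InvolCalc.order_two_of_mul_self ha ha1, pow_one])
    obtain ⟨P, hP⟩ := hK.exists_le_sylow
    set S0 := (IsPGroup.of_card (n := 2) (by rw [h4]; norm_num) : IsPGroup 2 V).toSylow hodd
    haveI : (S0 : Subgroup W.Mx).Normal := hn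
    haveI := Sylow.unique_of_normal S0 inferInstance
    rw [Subsingleton.elim P S0] at hP
    exact hP (mem_zpowers a)
  · have hc : Nat.card W.Mx = 60 := by rw [Nat.card_congr e.toEquiv, nat_card_alternatingGroup, Nat.card_fin]; rfl
    refine ⟨Or.inr (Or.inr hc), ?_⟩
    rw [if_pos hc, ← alt_five_pairs]
    exact Nat.card_congr ((e.toEquiv.prodCongr e.toEquiv).subtypeEquiv fun p => by
      simp only [MulEquiv.toEquiv_eq_coe, Equiv.prodCongr_apply, Prod.map_fst, Prod.map_snd, EquivLike.coe_coe,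
        ← map_mul, ← map_pow, ne_eq, MulEquiv.map_eq_one_iff])

theorem iso_alt (h60 : Nat.card W.Mx = 60) : Nonempty (W.Mx ≃* alternatingGroup (Fin 5)) := by
  haveI : Fact (Nat.Prime 2) := ⟨Nat.prime_two⟩
  obtain ⟨h4, hsq, hodd, hcent⟩ := W.four_hyp
  rcases four_cases h4 hsq hodd hcent with htop | ⟨h12, -⟩ | h
  · rw [htop, Subgroup.card_top] at h4; omega
  · omega
  · exact h

theorem card_uPairs : Nat.card (PairSet W.t W.u W.u) = (if Nat.card W.Mx = 60 then 195 else 3) := by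
  obtain ⟨hcard, hn⟩ := W.Mx_cases
  rw [← hn]
  clear hn
  have hsq1 : ∀ {x : W.C}, orderOf (x : G) = 2 → x * x = 1 := fun h => Subtype.ext (Cfsg.Lib.InvolCalc.sq_of_order_two h)
  have hdata : ∀ p : PairSet W.t W.u W.u, ∃ x y : W.C, (x : G) = p.1.1 ∧ (y : G) = p.1.2 ∧
      ((x : W.Q) ∈ W.Mx ∧ (x : W.Q) * x = 1 ∧ (x : W.Q) ≠ 1) ∧
      ((y : W.Q) ∈ W.Mx ∧ (y : W.Q) * y = 1) ∧ ((x : W.Q) * y) ^ 15 = 1 := by
    rintro ⟨⟨x, y⟩, hx, hy, hp⟩
    have hxo : orderOf x = 2 := W.isT_order hx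
    have hyo : orderOf y = 2 := order_two_of_conj W.u_order hy
    have hne : ¬ IsConj x y := fun e => W.not_conj ((hx.trans e).trans hy.symm)
    obtain ⟨cx, cy⟩ := pair_commute hxo hyo hne
    have hxC : x ∈ W.C := W.mem_C.2 (hp ▸ cx.eq.symm)
    have hyC : y ∈ W.C := W.mem_C.2 (hp ▸ cy.eq.symm)
    obtain ⟨h, hh⟩ := even_of_not_conj hxo hyo hne
    set xC : W.C := ⟨x, hxC⟩
    set yC : W.C := ⟨y, hyC⟩
    change pairInvol x y = W.u at hp
    rw [pairInvol, show orderOf (x * y) / 2 = h by omega] at hp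
    have hpow : (xC * yC) ^ h = W.uC := Subtype.ext hp
    have hoC : orderOf (xC * yC) = h + h := by rw [← Subgroup.orderOf_coe]; exact hh
    have hh0 : 0 < h := by have := orderOf_pos (x * y); omega
    have hord : orderOf ((xC * yC : W.C) : W.Q) = h := by
      refine (orderOf_eq_iff hh0).2 ⟨by rw [← QuotientGroup.mk_pow, hpow, W.mk_uC], fun j hj hj0 e => ?_⟩
      rw [← QuotientGroup.mk_pow] at e
      rcases W.mem_Z.1 ((QuotientGroup.eq_one_iff _).1 e) with e' | e'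
      · have := Nat.le_of_dvd hj0 (orderOf_dvd_of_pow_eq_one e'); omega
      · have := pow_injOn_Iio_orderOf (x := xC * yC) (show j ∈ Set.Iio _ by simp [hoC]; omega)
          (show h ∈ Set.Iio _ by simp [hoC]; omega) (e'.trans hpow.symm)
        omega
    have hodd : Odd h := by
      by_contra he
      obtain ⟨i, hi⟩ := Nat.not_odd_iff_even.1 he
      exact W.no_root ((xC * yC) ^ i) (by rw [← pow_add, ← hi, hpow])
    have hxq : (xC : W.Q) * xC = 1 := by rw [← QuotientGroup.mk_mul, hsq1 hxo, QuotientGroup.mk_one]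
    have hyq : (yC : W.Q) * yC = 1 := by rw [← QuotientGroup.mk_mul, hsq1 hyo, QuotientGroup.mk_one]
    have hx1 : (xC : W.Q) ≠ 1 := fun e => by
      rcases W.mem_Z.1 ((QuotientGroup.eq_one_iff _).1 e) with e' | e'
      · exact Cfsg.Lib.InvolCalc.ne_one_of_order_two hxo (congrArg Subtype.val e')
      · have ex : x = W.u := congrArg Subtype.val e'
        exact W.u_not_T (ex ▸ hx : W.IsT W.u)
    have hxM : (xC : W.Q) ∈ W.Mx := W.Mx_spec.2.2.2 xC hx
    have hy1 : (yC : W.Q) ≠ 1 := fun e => by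
      have hh1 : h = 1 := by
        rw [QuotientGroup.mk_mul, e, mul_one, Cfsg.Lib.InvolCalc.order_two_of_mul_self hxq hx1] at hord
        subst hord
        exact absurd hodd (by decide)
      rw [hh1, QuotientGroup.mk_mul, e, mul_one, orderOf_eq_one_iff] at hord
      exact hx1 hord
    have hxy : orderOf ((xC : W.Q) * yC) = h := by rw [← QuotientGroup.mk_mul]; exact hord
    obtain ⟨d, -, hd⟩ := Cfsg.Lib.InvolCalc.conj_of_odd (Cfsg.Lib.InvolCalc.order_two_of_mul_self hxq hx1)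
      (Cfsg.Lib.InvolCalc.order_two_of_mul_self hyq hy1) (hxy.symm ▸ hodd)
    have hyM : (yC : W.Q) ∈ W.Mx := hd ▸ W.Mx_normal.conj_mem _ hxM d
    refine ⟨xC, yC, rfl, rfl, ⟨hxM, hxq, hx1⟩, ⟨hyM, hyq⟩, ?_⟩
    rw [← orderOf_dvd_iff_pow_eq_one, hxy]
    have hdvd : h ∣ 4 * 15 := by
      have h' : h ∣ Nat.card W.Mx := by
        rw [← hxy]
        have := orderOf_dvd_natCard (⟨(xC : W.Q) * yC, mul_mem hxM hyM⟩ : W.Mx)
        rwa [Subgroup.orderOf_mk] at this
      rcases hcard with e | e | e <;> rw [e] at h' <;> exact h'.trans (by norm_num)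
    exact (Nat.Coprime.pow_right 2 (Nat.coprime_two_right.2 hodd) : Nat.Coprime h 4).dvd_of_dvd_mul_left hdvd
  choose fx fy hf using hdata
  refine Nat.card_congr (Equiv.ofBijective (fun p => ⟨(⟨_, (hf p).2.2.1.1⟩, ⟨_, (hf p).2.2.2.1.1⟩),
    Subtype.ext (hf p).2.2.1.2.1, fun e => (hf p).2.2.1.2.2 (congrArg Subtype.val e), Subtype.ext (hf p).2.2.2.1.2,
    Subtype.ext (hf p).2.2.2.2⟩) ⟨fun p q h => ?_, fun r => ?_⟩)
  · simp only [Subtype.mk.injEq, Prod.mk.injEq] at h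
    obtain ⟨p1, p2, -⟩ := hf p
    obtain ⟨q1, q2, -⟩ := hf q
    have hex : fx q = fx p := (W.mk_eq h.1).resolve_right fun e => by
      refine W.T_lift_not (x := fx p) (p1.symm ▸ p.2.1) ?_
      rw [← e, q1]; exact q.2.1
    have hey : fy q = fy p := (W.mk_eq h.2).resolve_right fun e => by
      have hpU : IsConj W.u (fy p : G) := p2.symm ▸ p.2.2.1
      have hqU : IsConj W.u (fy q : G) := q2.symm ▸ q.2.2.1
      have hy2 : (fy p : W.Q) ≠ 1 := fun e1 => by
        have h15 := (hf p).2.2.2.2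
        rw [e1, mul_one, show 15 = 2 * 7 + 1 from rfl, pow_succ, pow_mul, pow_two, (hf p).2.2.1.2.1, one_pow, one_mul] at h15
        exact (hf p).2.2.1.2.2 h15
      obtain ⟨x', hx', hT', -⟩ := W.lift_spec (hf p).2.2.2.1.1 (hf p).2.2.2.1.2 hy2
      rcases W.mk_eq hx' with e' | e'
      · exact W.u_not_T ((show W.IsT (fy p : G) from e' ▸ hT').trans hpU.symm)
      · refine W.u_not_T ((show W.IsT (fy q : G) from ?_).trans hqU.symm)
        rw [e, e', mul_assoc, W.uC_sq, mul_one]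
        exact hT'
    exact Subtype.ext (Prod.ext (by rw [← p1, ← q1, hex]) (by rw [← p2, ← q2, hey]))
  · obtain ⟨⟨a, b⟩, ha, ha1, hb, hab⟩ := r
    have hb1 : b ≠ 1 := fun e => by
      simp only at ha1 hab ha
      rw [e, mul_one, show 15 = 2 * 7 + 1 from rfl, pow_succ a, pow_mul, pow_two, ha, one_pow, one_mul] at hab
      exact ha1 hab
    obtain ⟨x, hx, hxT, -⟩ := W.lift_spec a.2 (congrArg Subtype.val ha) (fun e => ha1 (Subtype.ext e))
    obtain ⟨y0, hy0, -, hyU⟩ := W.lift_spec b.2 (congrArg Subtype.val hb) (fun e => hb1 (Subtype.ext e))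
    set y := y0 * W.uC
    have hyq : (y : W.Q) = b.1 := by rw [W.mk_mul_uC]; exact hy0
    have hxo : orderOf (x : G) = 2 := W.isT_order hxT
    have hyo : orderOf (y : G) = 2 := order_two_of_conj W.u_order hyU
    have hne : ¬ IsConj (x : G) (y : G) := fun e => W.not_conj ((hxT.trans e).trans hyU.symm)
    obtain ⟨h, hh⟩ := even_of_not_conj hxo hyo hne
    have h15 : ((x * y) ^ 15 : W.C) = W.uC := by
      have e : (((x * y) ^ 15 : W.C) : W.Q) = 1 := by
        rw [QuotientGroup.mk_pow, QuotientGroup.mk_mul, hx, hyq]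
        exact congrArg Subtype.val hab
      refine (W.mem_Z.1 ((QuotientGroup.eq_one_iff _).1 e)).resolve_left fun e' => ?_
      have h1 : ((x : G) * (y : G)) ^ 15 = 1 := congrArg Subtype.val e'
      have := orderOf_dvd_of_pow_eq_one h1
      rw [hh, ← two_mul] at this
      exact absurd ((dvd_mul_right 2 h).trans this) (by norm_num)
    have hG : ((x : G) * (y : G)) ^ 15 = W.u := congrArg Subtype.val h15
    have hh15 : h ∣ 15 := by
      have h30 : ((x : G) * (y : G)) ^ 30 = 1 := by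
        rw [show 30 = 15 + 15 from rfl, pow_add, hG, Cfsg.Lib.InvolCalc.sq_of_order_two W.u_order]
      have := orderOf_dvd_of_pow_eq_one h30
      rw [hh, ← two_mul] at this
      exact (Nat.mul_dvd_mul_iff_left two_pos).1 this
    have hpair : pairInvol (x : G) (y : G) = W.u := by
      obtain ⟨j, hj⟩ := hh15
      obtain ⟨i, rfl⟩ : Odd j := Odd.of_dvd_nat (n := 15) (by decide) ⟨h, by rw [hj, mul_comm]⟩
      rw [pairInvol, show orderOf ((x : G) * (y : G)) / 2 = h by omega, ← hG,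
        show 15 = (h + h) * i + h by rw [hj]; ring, pow_add, pow_mul, ← hh, pow_orderOf_eq_one, one_pow, one_mul]
    refine ⟨⟨((x : G), (y : G)), hxT, hyU, hpair⟩, ?_⟩
    obtain ⟨e1, e2, -⟩ := hf ⟨((x : G), (y : G)), hxT, hyU, hpair⟩
    refine Subtype.ext (Prod.ext (Subtype.ext ?_) (Subtype.ext ?_))
    · show ((fx _ : W.C) : W.Q) = a.1
      rw [show fx _ = x from Subtype.ext e1, hx]
    · show ((fy _ : W.C) : W.Q) = b.1
      rw [show fy _ = y from Subtype.ext e2, hyq]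

end Sit

end Cfsg.Lib.M12Cent
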