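import Cfsg.Agent.M12Cent.CentU

/-!
The order of the group.
-/

set_option autoImplicit false
set_option linter.unusedSectionVars false
set_option linter.style.haveILetI false
set_option maxRecDepth 10000

namespace Cfsg.Lib.M12Cent

open Subgroup Cfsg.Lib.HallJankoType

/-- an element of the first class not commuting with `a6` -/
def aPrime : M := M.mk 4

/-- indices of its centraliser inside the centraliser of the pair -/
def d4 : List (Fin 32) := (List.finRange 32).filter fun i => kel i * aPrime == aPrime * kel i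

/-- the swapped element -/
def sw0 (i : Fin 32) : M := kel (act f0C i)

/-- in the centraliser of the pair but not in the swapped centraliser -/
def outB (z : M) : Bool := inK z && d4.all fun i => !(z == sw0 i)

theorem d4_props : d4.length = 4 ∧ lab aPrime = 4 ∧ inK aPrime = false ∧ sw0 (kidx a6) = tau ∧
    sw0 (kidx tau) = a6 ∧ ∀ z : M, inK z = true → ∃ i : Fin 32, sw0 i = z := by decide +kernel

theorem escape : ∀ m : M, d4.any (fun i => m == sw0 i) = true ∨ d4.any (fun i =>
    (List.range 8).any (fun j => outB ((sw0 i * m) ^ (j + 1))) ||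
    d4.any (fun e => outB (m * sw0 i * m⁻¹ * sw0 e))) = true := by decide +kernel

theorem commuting_count : (Finset.univ.filter fun m : M => isTB true m = true).card = 31 := by decide +kernel

/-- the elementary abelian subgroup in case `cs = false` -/
def inV (m : M) : Bool := m == 1 || isTB false m

theorem v_props : inV 1 = true ∧ inV tau = true ∧ inV a6 = true ∧
    (∀ x : M, inV x = true → inV x⁻¹ = true ∧ ∀ y : M, inV y = true → inV (x * y) = true) := by decide +kernel

theorem v_abelian : ∀ x : M, inV x = true → ∀ y : M, inV y = true → x * y = y * x := by decide +kernel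

theorem v_count : (Finset.univ.filter fun m : M => isTB false m = true).card = 7 := by decide +kernel

/-- the elementary abelian subgroup -/
def VM : Subgroup M where
  carrier := {x | inV x = true}
  one_mem' := v_props.1
  mul_mem' := fun {x y} hx hy => (v_props.2.2.2 x hx).2 y hy
  inv_mem' := fun {x} hx => (v_props.2.2.2 x hx).1

theorem mem_VM {x : M} : x ∈ VM ↔ inV x = true := Iff.rfl

variable {G : Type*} [Group G] [Finite G]

namespace Sit

variable (W : Sit G)

theorem card_Ct : Nat.card (centralizer ({W.t} : Set G)) = 192 := by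
  rw [← W.range_eq, ← card_M]
  exact (Nat.card_congr (Equiv.ofBijective _ ⟨fun a b h => W.inj (congrArg Subtype.val h),
    W.φ.rangeRestrict_surjective⟩)).symm

theorem order_eq : Nat.card G = (if W.cs then 240 else 48) * (4 * Nat.card W.Mx) +
    (if Nat.card W.Mx = 60 then 195 else 3) * 192 := by
  have h := two_class_formula W.t_order W.u_order W.not_conj W.cls
  rw [W.card_tauPairs, W.card_uPairs, W.card_Ct, show Nat.card (centralizer ({W.u} : Set G)) = _ from W.card_C] at h
  obtain ⟨h1, h2⟩ := tauPairs_card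
  rw [h]
  cases hcs : W.cs <;> simp [h1, h2]

theorem cs_true [IsSimpleGroup G] : W.cs = true := by
  classical
  by_contra hcs
  have hcs' : W.cs = false := Bool.eq_false_iff.2 hcs
  set V := VM.map W.φ with hV
  set N := normalizer (V : Set G)
  have hlab : ∀ {m : M}, inV m = true → m ≠ 1 → lab m = 1 ∨ lab m = 2 := by
    intro m h h1
    simpa [inV, isTB, h1] using h
  have hMN : ∀ m, W.φ m ∈ N := by
    have key : ∀ m x, x ∈ V → W.φ m * x * (W.φ m)⁻¹ ∈ V := by
      rintro m _ ⟨v, hv, rfl⟩
      refine ⟨m * v * m⁻¹, ?_, by rw [map_mul, map_mul, map_inv]⟩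
      rw [SetLike.mem_coe, mem_VM] at hv ⊢
      by_cases h1 : v = 1
      · subst h1; simpa using v_props.1
      have hT : W.IsT (W.φ v) := W.isT_of_tb (by
        rw [hcs']; rcases hlab hv h1 with e | e <;> simp [isTB, e])
      have h := W.isT_tb (m := m * v * m⁻¹) (by rw [map_mul, map_mul, map_inv]; exact W.T_conj hT _)
      rw [hcs'] at h
      simp [inV, h]
    intro m
    refine mem_normalizer_iff.2 fun x => ⟨key m x, fun hx => ?_⟩
    have := key m⁻¹ _ hx
    simpa [map_inv, mul_assoc] using this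
  obtain ⟨g, hg1, hg2⟩ := W.exists_swap (Or.inl rfl) W.isT_a6
  have hgV : ∀ x ∈ V, g * x * g⁻¹ ∈ V := by
    rintro _ ⟨v, hv, rfl⟩
    rw [SetLike.mem_coe, mem_VM] at hv
    obtain ⟨k, hk⟩ := W.mem_iff.1 (show g * W.φ v * g⁻¹ * W.t = W.t * (g * W.φ v * g⁻¹) by
      rw [← hg2]
      calc g * W.φ v * g⁻¹ * (g * W.φ a6 * g⁻¹) = g * (W.φ v * W.φ a6) * g⁻¹ := by group
        _ = g * (W.φ a6 * W.φ v) * g⁻¹ := by rw [← map_mul, v_abelian v hv a6 v_props.2.2.1, map_mul]
        _ = _ := by group)
    refine ⟨k, ?_, hk⟩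
    rw [SetLike.mem_coe, mem_VM]
    by_cases h1 : v = 1
    · subst h1
      have : k = 1 := W.inj (by rw [hk, map_one]; simp)
      rw [this]; exact v_props.1
    have hT : W.IsT (W.φ v) := W.isT_of_tb (by
      rw [hcs']; rcases hlab hv h1 with e | e <;> simp [isTB, e])
    have h := W.isT_tb (m := k) (hk ▸ W.T_conj hT g)
    rw [hcs'] at h
    simp [inV, h]
  have hgN : g ∈ N := by
    exact mem_normalizer_iff.2 fun x => ⟨hgV x, fun hx => by
      have hinj : Function.Injective (fun z : V => (⟨g * z.1 * g⁻¹, hgV z.1 z.2⟩ : V)) := fun a b h =>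
        Subtype.ext (mul_left_cancel (mul_right_cancel (congrArg Subtype.val h)))
      obtain ⟨z, hz⟩ := Finite.injective_iff_surjective.1 hinj ⟨_, hx⟩
      have e : z.1 = x := mul_left_cancel (mul_right_cancel (congrArg Subtype.val hz))
      exact e ▸ z.2⟩
  set tN : N := ⟨W.t, W.map_tau ▸ hMN tau⟩
  have hcent : Nat.card (centralizer ({tN} : Set N)) = 192 := by
    rw [← card_M]
    refine (Nat.card_congr (Equiv.ofBijective (fun m : M => (⟨⟨W.φ m, hMN m⟩, mem_centralizer_singleton_iff.2
      (Subtype.ext (W.φ_comm m))⟩ : centralizer ({tN} : Set N))) ⟨fun a b h => ?_, fun z => ?_⟩)).symm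
    · exact W.inj (congrArg (fun z : centralizer ({tN} : Set N) => z.1.1) h)
    · obtain ⟨m, hm⟩ := W.mem_iff.1 (congrArg Subtype.val (mem_centralizer_singleton_iff.1 z.2))
      exact ⟨m, Subtype.ext (Subtype.ext hm)⟩
  have hclass : 7 ≤ Nat.card {x // IsConj tN x} := by
    have hc : ∀ m : {m : M // isTB false m = true}, IsConj tN ⟨W.φ m.1, hMN m.1⟩ := by
      intro ⟨m, hm⟩
      have hl : lab m = 1 ∨ lab m = 2 := by simpa [isTB] using hm
      obtain ⟨a, b⟩ := lab_zero m (by omega)
      rcases lab_invol m a b with ⟨-, rfl⟩ | ⟨hl', e⟩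
      · refine isConj_iff.2 ⟨1, Subtype.ext ?_⟩
        simp [tN, W.map_tau]
      · have e2 : lab m = 2 := by omega
        rw [e2] at e
        refine isConj_iff.2 ⟨(⟨W.φ (cw m), hMN _⟩ : N)⁻¹ * ⟨g, hgN⟩, Subtype.ext ?_⟩
        show (W.φ (cw m))⁻¹ * g * W.t * ((W.φ (cw m))⁻¹ * g)⁻¹ = W.φ m
        calc _ = (W.φ (cw m))⁻¹ * (g * W.t * g⁻¹) * W.φ (cw m) := by group
          _ = _ := by
            rw [hg1, show a6 = cw m * m * (cw m)⁻¹ from e.symm, map_mul, map_mul, map_inv]; group
    rw [← v_count, ← Fintype.card_subtype, ← Nat.card_eq_fintype_card]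
    exact Nat.card_le_card_of_injective (fun m => (⟨_, hc m⟩ : {x // IsConj tN x})) fun a b h =>
      Subtype.ext (W.inj (congrArg Subtype.val (congrArg Subtype.val h)))
  have hclass' : Nat.card {x // IsConj tN x} ≤ 7 := by
    have hv : ∀ x : {x // IsConj tN x}, ∃ m : {m : M // isTB false m = true}, W.φ m.1 = x.1.1 := by
      rintro ⟨x, hx⟩
      obtain ⟨c, hc⟩ := isConj_iff.1 hx
      have hxV : (x : G) ∈ V := by
        rw [← hc]
        exact (mem_normalizer_iff.1 c.2 W.t).1 ⟨tau, v_props.2.1, W.map_tau⟩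
      obtain ⟨m, hm, hmx⟩ := hxV
      have hT : W.IsT (x : G) := isConj_iff.2 ⟨c.1, congrArg Subtype.val hc⟩
      refine ⟨⟨m, ?_⟩, hmx⟩
      rw [← hcs']
      exact W.isT_tb (hmx.symm ▸ hT)
    choose f hf using hv
    rw [← v_count, ← Fintype.card_subtype, ← Nat.card_eq_fintype_card]
    exact Nat.card_le_card_of_injective f fun a b h =>
      Subtype.ext (Subtype.ext ((hf a).symm.trans (h ▸ hf b)))
  have hN : Nat.card N = 1344 := by
    have := card_class_mul tN
    rw [hcent, show Nat.card {x // IsConj tN x} = 7 by omega] at this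
    omega
  have hGN : Nat.card G = 1344 := by
    have hd : 1344 ∣ Nat.card G := hN ▸ card_subgroup_dvd_card N
    have h := W.order_eq
    rw [hcs'] at h
    rcases W.Mx_cases.1 with e | e | e <;> rw [e] at h <;> norm_num at h <;> omega
  have htop : N = ⊤ := eq_top_of_card_eq _ (hN.trans hGN.symm)
  haveI : V.Normal := normalizer_eq_top_iff.1 htop
  rcases Subgroup.Normal.eq_bot_or_eq_top (H := V) inferInstance with h | h
  · have : W.t ∈ V := ⟨tau, v_props.2.1, W.map_tau⟩
    rw [h] at this
    exact Cfsg.Lib.InvolCalc.ne_one_of_order_two W.t_order (mem_bot.1 this)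
  · refine W.noncomm ⟨⟨fun a b => ?_⟩⟩
    obtain ⟨x, hx, rfl⟩ : a ∈ V := h ▸ mem_top a
    obtain ⟨y, hy, rfl⟩ : b ∈ V := h ▸ mem_top b
    rw [← map_mul, v_abelian x hx y hy, map_mul]

/-- the swapping element -/
noncomputable def n0 [Fact (W.cs = true)] : G := (W.sw (Fact.out : W.cs = true)).choose

theorem n0_spec [Fact (W.cs = true)] (i : Fin 32) : W.n0 * W.φ (kel i) * W.n0⁻¹ = W.φ (sw0 i) :=
  (W.sw (Fact.out : W.cs = true)).choose_spec i

theorem kel_tau : kel (kidx tau) = tau := kidx_tau

theorem kel_a6 : kel (kidx a6) = a6 := kel_kidx ((inK_iff a6).2 rfl)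

theorem n0_t [Fact (W.cs = true)] : W.n0 * W.t * W.n0⁻¹ = W.φ a6 ∧ W.n0 * W.φ a6 * W.n0⁻¹ = W.t := by
  refine ⟨?_, ?_⟩
  · have := W.n0_spec (kidx tau)
    rwa [kel_tau, W.map_tau, d4_props.2.2.2.2.1] at this
  · have := W.n0_spec (kidx a6)
    rwa [kel_a6, d4_props.2.2.2.1, W.map_tau] at this

theorem class_big [Fact (W.cs = true)] : 79 ≤ Nat.card {x // W.IsT x} := by
  classical
  letI := Fintype.ofFinite G
  obtain ⟨hlen, hla, hout, -, -, hsurj⟩ := d4_props
  obtain ⟨hn1, hn2⟩ := W.n0_t
  set n := W.n0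
  set y := n * W.φ aPrime * n⁻¹ with hy
  have hyT : W.IsT y := W.T_conj (W.isT_of_tb (by simp [isTB, (Fact.out : W.cs = true), hla])) n
  have hy_t : ¬ Commute y W.t := fun h => by
    rw [← hn2] at h
    have h' : W.φ aPrime * W.φ a6 = W.φ a6 * W.φ aPrime := by
      have e := h.eq
      rw [hy] at e
      calc W.φ aPrime * W.φ a6 = n⁻¹ * (n * W.φ aPrime * n⁻¹ * (n * W.φ a6 * n⁻¹)) * n := by group
        _ = n⁻¹ * (n * W.φ a6 * n⁻¹ * (n * W.φ aPrime * n⁻¹)) * n := by rw [e]
        _ = _ := by group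
    rw [← map_mul, ← map_mul] at h'
    have := (inK_iff aPrime).2 (W.inj h')
    rw [hout] at this
    exact Bool.noConfusion this
  have hd4 : ∀ i ∈ d4, Commute (W.φ (sw0 i)) y := by
    intro i hi
    have hc : kel i * aPrime = aPrime * kel i := by
      simpa [d4] using hi
    rw [hy, ← W.n0_spec i]
    exact (show Commute (W.φ (kel i)) (W.φ aPrime) by
      show _ = _; rw [← map_mul, hc, map_mul]).map (MulAut.conj n).toMonoidHom
  have hK : ∀ z : M, inK z = true → Commute (W.φ z) y → d4.any (fun i => z == sw0 i) = true := by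
    intro z hz hc
    obtain ⟨i, rfl⟩ := hsurj z hz
    refine List.any_eq_true.2 ⟨i, ?_, beq_self_eq_true _⟩
    rw [← W.n0_spec i, hy] at hc
    have hc' := hc.map (MulAut.conj n⁻¹).toMonoidHom
    simp [n, mul_assoc] at hc'
    have : kel i * aPrime = aPrime * kel i := W.inj (by rw [map_mul, map_mul]; exact hc'.eq)
    simp [d4, this]
  have hcent : ∀ m : M, Commute (W.φ m) y → d4.any (fun i => m == sw0 i) = true := by
    intro m hm
    refine (escape m).resolve_right fun h => ?_
    obtain ⟨i, hi, h⟩ := List.any_eq_true.1 h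
    have key : ∀ z : M, Commute (W.φ z) y → outB z = true → False := fun z hz ho => by
      simp only [outB, Bool.and_eq_true, List.all_eq_true, Bool.not_eq_true'] at ho
      obtain ⟨j, hj, hj'⟩ := List.any_eq_true.1 (hK z ho.1 hz)
      rw [ho.2 j hj] at hj'
      exact Bool.noConfusion hj'
    rcases Bool.or_eq_true _ _ ▸ h with h | h
    · obtain ⟨j, -, h⟩ := List.any_eq_true.1 h
      exact key _ (by rw [map_pow, map_mul]; exact ((hd4 i hi).mul_left hm).pow_left _) h
    · obtain ⟨e, he, h⟩ := List.any_eq_true.1 h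
      exact key _ (by
        rw [map_mul, map_mul, map_mul, map_inv]
        exact ((hm.mul_left (hd4 i hi)).mul_left hm.inv_left).mul_left (hd4 e he)) h
  have horb : 48 ≤ (Finset.univ.image fun m : M => W.φ m * y * (W.φ m)⁻¹).card := by
    have h := Finset.card_le_mul_card_image (f := fun m : M => W.φ m * y * (W.φ m)⁻¹) Finset.univ 4 (fun b hb => by
      obtain ⟨m0, -, rfl⟩ := Finset.mem_image.1 hb
      refine (Finset.card_le_card (t := (d4.map fun i => m0 * sw0 i).toFinset) fun m hm => ?_).trans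
        ((List.toFinset_card_le _).trans (by rw [List.length_map, hlen]))
      have e := (Finset.mem_filter.1 hm).2
      have hc : Commute (W.φ (m0⁻¹ * m)) y := by
        show _ = _
        rw [map_mul, map_inv]
        calc (W.φ m0)⁻¹ * W.φ m * y = (W.φ m0)⁻¹ * (W.φ m * y * (W.φ m)⁻¹) * W.φ m := by group
          _ = (W.φ m0)⁻¹ * (W.φ m0 * y * (W.φ m0)⁻¹) * W.φ m := by rw [e]
          _ = _ := by group
      obtain ⟨i, hi, hi'⟩ := List.any_eq_true.1 (hcent _ hc)
      rw [List.mem_toFinset, List.mem_map]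
      exact ⟨i, hi, by rw [← beq_iff_eq.1 hi', mul_inv_cancel_left]⟩)
    rw [Finset.card_univ, ← Nat.card_eq_fintype_card, card_M] at h
    omega
  set A : Finset G := (Finset.univ.filter fun m : M => isTB true m = true).image W.φ
  set B : Finset G := Finset.univ.image fun m : M => W.φ m * y * (W.φ m)⁻¹
  have hA : A.card = 31 := by rw [Finset.card_image_of_injective _ W.inj, commuting_count]
  have hdisj : Disjoint A B := by
    refine Finset.disjoint_left.2 fun x hx hx' => ?_
    obtain ⟨a, -, rfl⟩ := Finset.mem_image.1 hx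
    obtain ⟨m, -, e⟩ := Finset.mem_image.1 hx'
    refine hy_t ?_
    have h1 : Commute (W.φ m * y * (W.φ m)⁻¹) W.t := e ▸ W.φ_comm a
    have h2 := h1.map (MulAut.conj (W.φ m)⁻¹).toMonoidHom
    have h3 : (W.φ m)⁻¹ * W.t * W.φ m = W.t := by rw [mul_assoc, ← W.φ_comm m, inv_mul_cancel_left]
    simp [mul_assoc] at h2
    rwa [← mul_assoc, h3] at h2
  have hsub : ∀ x ∈ A ∪ B, W.IsT x := by
    intro x hx
    rcases Finset.mem_union.1 hx with h | h
    · obtain ⟨a, ha, rfl⟩ := Finset.mem_image.1 h
      exact W.isT_of_tb (by rw [(Fact.out : W.cs = true)]; exact (Finset.mem_filter.1 ha).2)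
    · obtain ⟨m, -, rfl⟩ := Finset.mem_image.1 h
      exact W.T_conj hyT _
  have := Finset.card_le_card (show A ∪ B ⊆ Finset.univ.filter fun x => W.IsT x from
    fun x hx => Finset.mem_filter.2 ⟨Finset.mem_univ _, hsub x hx⟩)
  rw [Finset.card_union_of_disjoint hdisj, hA, ← Fintype.card_subtype, ← Nat.card_eq_fintype_card] at this
  omega

theorem card_Mx [Fact (W.cs = true)] : Nat.card W.Mx = 60 ∧ Nat.card G = 95040 := by
  have hc : Nat.card {x // W.IsT x} * 192 = Nat.card G := by
    rw [← W.card_Ct]; exact card_class_mul W.t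
  have hb := W.class_big
  have h := W.order_eq
  rw [(Fact.out : W.cs = true)] at h
  rcases W.Mx_cases.1 with e | e | e <;> rw [e] at h <;> norm_num at h <;> refine ⟨?_, ?_⟩ <;> omega

end Sit

end Cfsg.Lib.M12Cent
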