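import Cfsg.Agent.M12Cent.LogData

/-! Checks of the two logs. -/

set_option autoImplicit false
set_option maxRecDepth 20000
set_option Elab.async false

namespace Cfsg.Lib.M12Cent

theorem logT_0 : logT.factsOK 0 400 = true := by decide +kernel
theorem logT_400 : logT.factsOK 400 400 = true := by decide +kernel
theorem logT_800 : logT.factsOK 800 400 = true := by decide +kernel
theorem logT_1200 : logT.factsOK 1200 400 = true := by decide +kernel
theorem logT_1600 : logT.factsOK 1600 400 = true := by decide +kernel
theorem logT_2000 : logT.factsOK 2000 400 = true := by decide +kernel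
theorem logT_2400 : logT.factsOK 2400 400 = true := by decide +kernel
theorem logT_2800 : logT.factsOK 2800 400 = true := by decide +kernel
theorem logT_3200 : logT.factsOK 3200 400 = true := by decide +kernel
theorem logT_3600 : logT.factsOK 3600 400 = true := by decide +kernel
theorem logT_4000 : logT.factsOK 4000 400 = true := by decide +kernel
theorem logT_4400 : logT.factsOK 4400 400 = true := by decide +kernel
theorem logT_4800 : logT.factsOK 4800 400 = true := by decide +kernel
theorem logT_5200 : logT.factsOK 5200 400 = true := by decide +kernel
theorem logT_5600 : logT.factsOK 5600 226 = true := by decide +kernel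

theorem logT_ok : logT.factsOK 0 logT.m = true := by
  rw [show logT.m = 5826 from rfl]
  have h400 : logT.factsOK 0 800 = true := Log.factsOK_cat0 logT logT_0 logT_400 (by norm_num)
  have h800 : logT.factsOK 0 1200 = true := Log.factsOK_cat0 logT h400 logT_800 (by norm_num)
  have h1200 : logT.factsOK 0 1600 = true := Log.factsOK_cat0 logT h800 logT_1200 (by norm_num)
  have h1600 : logT.factsOK 0 2000 = true := Log.factsOK_cat0 logT h1200 logT_1600 (by norm_num)
  have h2000 : logT.factsOK 0 2400 = true := Log.factsOK_cat0 logT h1600 logT_2000 (by norm_num)
  have h2400 : logT.factsOK 0 2800 = true := Log.factsOK_cat0 logT h2000 logT_2400 (by norm_num)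
  have h2800 : logT.factsOK 0 3200 = true := Log.factsOK_cat0 logT h2400 logT_2800 (by norm_num)
  have h3200 : logT.factsOK 0 3600 = true := Log.factsOK_cat0 logT h2800 logT_3200 (by norm_num)
  have h3600 : logT.factsOK 0 4000 = true := Log.factsOK_cat0 logT h3200 logT_3600 (by norm_num)
  have h4000 : logT.factsOK 0 4400 = true := Log.factsOK_cat0 logT h3600 logT_4000 (by norm_num)
  have h4400 : logT.factsOK 0 4800 = true := Log.factsOK_cat0 logT h4000 logT_4400 (by norm_num)
  have h4800 : logT.factsOK 0 5200 = true := Log.factsOK_cat0 logT h4400 logT_4800 (by norm_num)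
  have h5200 : logT.factsOK 0 5600 = true := Log.factsOK_cat0 logT h4800 logT_5200 (by norm_num)
  have h5600 : logT.factsOK 0 5826 = true := Log.factsOK_cat0 logT h5200 logT_5600 (by norm_num)
  exact h5600

theorem logT_closed : logT.closedOK rowsT = true :=
  Log.closedOK_of_mask (mask := maskT) (by decide +kernel)

theorem rowsT_len : rowsT.length = 495 := by decide +kernel

theorem logF_ok : logF.factsOK 0 logF.m = true := by decide +kernel

theorem collapse_spec : collapseF < logF.m ∧ logF.su collapseF = 0 ∧ logF.sv collapseF = 0 ∧ logF.sl collapseF = 4 := by decide +kernel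

theorem logT_letters : logT.lettersOK = true := by decide +kernel

theorem logF_letters : logF.lettersOK = true := by decide +kernel

end Cfsg.Lib.M12Cent
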