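import Cfsg.Agent.M12Cent.Gens
import Cfsg.Agent.M12Cent.LogFacts

/-!
The relations bound the group they generate.
-/

set_option autoImplicit false
set_option linter.unusedSectionVars false
set_option maxRecDepth 10000

namespace Cfsg.Lib.M12Cent

open Subgroup

/-- the first four letters in the model -/
def gsM : List M := [M.mk gaC, (M.mk gaC)⁻¹, M.mk gbC, (M.mk gbC)⁻¹]

/-- letters of the model only -/
def lowW (w : List ℕ) : Bool := w.all fun l => decide (l < 4)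

/-- the relators built from their parts -/
def relsParts (wlast : List ℕ) : List (List ℕ) :=
  hRels ++ [[4, 4]] ++ kPairs.map (fun p => 4 :: (p.1 ++ 4 :: p.2)) ++
    [(4 :: wS2) ++ (4 :: wS2) ++ (4 :: wS2), [5, 5, 5], 5 :: (wU ++ 6 :: logT.winv wU),
      5 :: (wC1 ++ 6 :: logT.winv wC1), wC3 ++ 5 :: (logT.winv wC3 ++ [5]),
      wC3 ++ 5 :: [4, 1, 2, 0] ++ (6 :: logT.winv wC3) ++ [1, 3, 0, 4], wH ++ 5 :: (logT.winv wH ++ [wlast.headD 0])]

theorem rels_eq : relsT = relsParts [6] ∧ relsF = relsParts [5] := by decide +kernel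

theorem word_values : (∀ r ∈ hRels, lowW r = true ∧ evW gsM r = 1) ∧
    lowW wS2 = true ∧ evW gsM wS2 = s2 ∧
    lowW wU = true ∧ evW gsM wU = mu ∧ lowW (logT.winv wU) = true ∧ evW gsM (logT.winv wU) = mu ∧
    lowW wC1 = true ∧ evW gsM wC1 = c1 ∧ lowW (logT.winv wC1) = true ∧ evW gsM (logT.winv wC1) = c1 ∧
    lowW wC3 = true ∧ evW gsM wC3 = c3 ∧ lowW (logT.winv wC3) = true ∧ evW gsM (logT.winv wC3) = c3 ∧
    lowW wH = true ∧ evW gsM wH = hh ∧ lowW (logT.winv wH) = true ∧ evW gsM (logT.winv wH) = hh⁻¹ ∧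
    evW gsM [1, 2, 0] = m0 ∧ evW gsM [1, 3, 0] = m0⁻¹ := by decide +kernel

theorem pair_values : kPairs.length = 32 ∧ ∀ i : Fin 32,
    lowW (kPairs.getD i.val ([], [])).1 = true ∧ evW gsM (kPairs.getD i.val ([], [])).1 = kel i ∧
    lowW (kPairs.getD i.val ([], [])).2 = true ∧ evW gsM (kPairs.getD i.val ([], [])).2 = (sw0 i)⁻¹ := by decide +kernel

/-- a group with generators satisfying the relations -/
structure Gen (X : Type*) [Group X] where
  /-- the model inside -/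
  ψ : M →* X
  /-- the swap -/
  n : X
  /-- the element of order three -/
  d : X
  nn : n * n = 1
  nk : ∀ i, n * ψ (kel i) * n = ψ (sw0 i)
  ns : (n * ψ s2) ^ 3 = 1
  dd : d ^ 3 = 1
  du : d * ψ mu = ψ mu * d
  da : d * ψ c1 = ψ c1 * d
  dc : ψ c3 * d * ψ c3 = d⁻¹
  db : ψ c3 * d * (n * ψ m0) = n * ψ m0 * (ψ c3 * d)

namespace Gen

variable {X : Type*} [Group X] (A : Gen X)

/-- the letters -/
def im (l : ℕ) : X := [A.ψ (M.mk gaC), A.ψ (M.mk gaC)⁻¹, A.ψ (M.mk gbC), A.ψ (M.mk gbC)⁻¹, A.n, A.d, A.d⁻¹].getD l 1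

/-- the subgroup generated by the letters -/
def L : Subgroup X := closure (A.im '' Set.Iio 7)

variable (C : Log)

theorem wv_append (a b : List ℕ) : C.wv A.im (a ++ b) = C.wv A.im a * C.wv A.im b := by
  simp [Log.wv]

theorem wv_cons (a : ℕ) (b : List ℕ) : C.wv A.im (a :: b) = C.val A.im a * C.wv A.im b := by
  simp [Log.wv]

theorem wv_nil : C.wv A.im [] = 1 := rfl

theorem wv_low (hng : C.ng = 7) : ∀ w : List ℕ, lowW w = true → C.wv A.im w = A.ψ (evW gsM w)
  | [], _ => (map_one A.ψ).symm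
  | l :: w, h => by
    simp only [lowW, List.all_cons, Bool.and_eq_true, decide_eq_true_eq] at h
    rw [wv_cons, wv_low hng w h.2, evW, evW, List.map_cons, List.prod_cons, map_mul, Log.val, if_pos (by omega)]
    congr 1
    obtain ⟨hl, -⟩ := h
    interval_cases l <;> rfl

theorem rel_parts (hng : C.ng = 7) {wlast : List ℕ}
    (hlast : A.ψ hh * A.d * (A.ψ hh)⁻¹ * C.val A.im (wlast.headD 0) = 1) :
    ∀ r ∈ relsParts wlast, C.wv A.im r = 1 := by
  obtain ⟨hH, s1, s2', u1, u2, u3, u4, a1, a2, a3, a4, b1, b2, b3, b4, h1, h2, h3, h4, m1, m2⟩ := word_values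
  have lo := A.wv_low C hng
  have v4 : C.val A.im 4 = A.n := by rw [Log.val, if_pos (by omega)]; rfl
  have v5 : C.val A.im 5 = A.d := by rw [Log.val, if_pos (by omega)]; rfl
  have v6 : C.val A.im 6 = A.d⁻¹ := by rw [Log.val, if_pos (by omega)]; rfl
  have hni : A.n⁻¹ = A.n := inv_eq_of_mul_eq_one_right A.nn
  have hc3 : A.ψ c3 * A.ψ c3 = 1 := by rw [← map_mul, outer_props.2.2.2.1, map_one]
  intro r hr
  simp only [relsParts, List.mem_append, List.mem_map, List.mem_cons, List.not_mem_nil, or_false] at hr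
  rcases hr with ((hr | rfl) | ⟨p, hp, rfl⟩) | rfl | rfl | rfl | rfl | rfl | rfl | rfl
  · rw [lo r (hH r hr).1, (hH r hr).2, map_one]
  · rw [wv_cons, wv_cons, wv_nil, v4, mul_one, A.nn]
  · obtain ⟨i, hi, rfl⟩ := List.getElem_of_mem hp
    obtain ⟨q1, q2, q3, q4⟩ := pair_values.2 ⟨i, pair_values.1 ▸ hi⟩
    rw [List.getD_eq_getElem _ _ hi] at q1 q2 q3 q4
    rw [wv_cons, wv_append, wv_cons, lo _ q1, lo _ q3, q2, q4, v4, map_inv, ← A.nk]
    group
  · simp only [wv_cons, wv_append, v4, lo _ s1, s2']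
    rw [← A.ns]
    simp only [pow_succ, pow_zero, one_mul, mul_assoc]
  · rw [wv_cons, wv_cons, wv_cons, wv_nil, v5, mul_one, ← A.dd]
    simp only [pow_succ, pow_zero, one_mul, mul_assoc]
  · rw [wv_cons, wv_append, wv_cons, lo _ u1, lo _ u3, u2, u4, v5, v6, ← mul_assoc, A.du, mul_assoc,
      mul_inv_cancel_left, ← map_mul, mu_props.1, map_one]
  · rw [wv_cons, wv_append, wv_cons, lo _ a1, lo _ a3, a2, a4, v5, v6, ← mul_assoc, A.da, mul_assoc,
      mul_inv_cancel_left, ← map_mul, outer_props.2.2.1, map_one]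
  · rw [wv_append, wv_cons, wv_append, wv_cons, wv_nil, lo _ b1, lo _ b3, b2, b4, v5, mul_one, ← mul_assoc,
      ← mul_assoc, A.dc, inv_mul_cancel]
  · simp only [wv_append, wv_cons, wv_nil, lo _ b1, lo _ b3, b2, b4, v4, v5, v6, mul_one]
    have e1 : C.val A.im 1 * (C.val A.im 2 * C.val A.im 0) = A.ψ m0 := by
      rw [← m1, ← lo [1, 2, 0] rfl]; simp [Log.wv]
    have e2 : C.val A.im 1 * (C.val A.im 3 * C.val A.im 0) = A.ψ m0⁻¹ := by
      rw [← m2, ← lo [1, 3, 0] rfl]; simp [Log.wv]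
    calc _ = A.ψ c3 * A.d * (A.n * (C.val A.im 1 * (C.val A.im 2 * C.val A.im 0))) * (A.d⁻¹ * A.ψ c3) *
          (C.val A.im 1 * (C.val A.im 3 * C.val A.im 0)) * A.n := by simp only [mul_assoc]
      _ = A.n * A.ψ m0 * (A.ψ c3 * A.d) * (A.d⁻¹ * A.ψ c3) * A.ψ m0⁻¹ * A.n := by rw [e1, e2, A.db]
      _ = A.n * A.ψ m0 * (A.ψ c3 * A.ψ c3) * A.ψ m0⁻¹ * A.n := by group
      _ = 1 := by rw [hc3, mul_one, map_inv, mul_inv_cancel_right, A.nn]
  · rw [wv_append, wv_cons, wv_append, wv_cons, wv_nil, lo _ h1, lo _ h3, h2, h4, v5, mul_one, map_inv, ← mul_assoc,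
      ← mul_assoc]
    exact hlast

theorem sound_parts (hC : C = logT ∨ C = logF) {K : Subgroup X} (hK : A.ψ.range ≤ K)
    (hrel : ∀ r ∈ C.rels, C.wv A.im r = 1) : C.Sound A.im K := by
  have hng : C.ng = 7 ∧ C.iv = [1, 0, 3, 2, 4, 6, 5] ∧ C.subs = [0, 1, 2, 3] := by
    rcases hC with rfl | rfl <;> exact ⟨rfl, rfl, rfl⟩
  have hni : A.n⁻¹ = A.n := inv_eq_of_mul_eq_one_right A.nn
  refine ⟨?_, fun l hl => ?_, hrel, fun l hl => ?_⟩
  · rcases hC with rfl | rfl
    · exact logT_letters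
    · exact logF_letters
  · rw [hng.1] at hl
    rw [Log.inv, if_pos (by omega), hng.2.1]
    interval_cases l <;> simp [im, hni, map_inv]
  · rw [hng.2.2] at hl
    simp only [List.mem_cons, List.not_mem_nil, or_false] at hl
    rcases hl with rfl | rfl | rfl | rfl <;> rw [Log.val, if_pos (by omega)] <;> exact hK ⟨_, rfl⟩

theorem card_L [Finite X] (hd : A.ψ hh * A.d * (A.ψ hh)⁻¹ = A.d) : Nat.card A.L ≤ 495 * 192 := by
  have hrel : ∀ r ∈ logT.rels, logT.wv A.im r = 1 := fun r hr => A.rel_parts logT rfl (wlast := [6]) (by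
    show A.ψ hh * A.d * (A.ψ hh)⁻¹ * logT.val A.im 6 = 1
    rw [hd, Log.val, if_pos (by decide)]
    exact mul_inv_cancel A.d) r (rels_eq.1 ▸ (show r ∈ relsT from hr))
  have h := (A.sound_parts logT (Or.inl rfl) (le_refl A.ψ.range) hrel).card_le logT_ok logT_closed
    (L := A.L) (le_of_eq rfl)
  rw [rowsT_len] at h
  refine h.trans (Nat.mul_le_mul_left _ ?_)
  rw [← card_M]
  exact Nat.card_le_card_of_surjective A.ψ.rangeRestrict A.ψ.rangeRestrict_surjective

theorem swap_in_range (hd : A.ψ hh * A.d * (A.ψ hh)⁻¹ = A.d⁻¹) : A.n ∈ A.ψ.range := by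
  have hrel : ∀ r ∈ logF.rels, logF.wv A.im r = 1 := fun r hr => A.rel_parts logF rfl (wlast := [5]) (by
    show A.ψ hh * A.d * (A.ψ hh)⁻¹ * logF.val A.im 5 = 1
    rw [hd, Log.val, if_pos (by decide)]
    exact inv_mul_cancel A.d) r (rels_eq.2 ▸ (show r ∈ relsF from hr))
  obtain ⟨hb, hu, hv, hl⟩ := collapse_spec
  have h := (A.sound_parts logF (Or.inr rfl) (le_refl A.ψ.range) hrel).all_hold logF_ok _ hb
  rw [Log.Holds, hu, hv, hl, Log.rep_zero, one_mul, inv_one, mul_one, Log.val, if_pos (by decide)] at h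
  exact h

end Gen

end Cfsg.Lib.M12Cent
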