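import Cfsg.Agent.M12Cent.Acts

/-!
The possible swaps of a commuting pair.
-/

set_option autoImplicit false
set_option maxRecDepth 20000

namespace Cfsg.Lib.M12Cent

/-- elements of the centraliser of the pair `tau, a12` -/
def kel12 (i : Fin 16) : M := M.mk (kList12.getD i.val 0)
/-- elements of the centraliser of the pair `tau, a24` -/
def kel24 (i : Fin 8) : M := M.mk (kList24.getD i.val 0)

theorem cover12 : ∀ x : M, x * a12 = a12 * x → ∃ i, kel12 i = x := by decide +kernel
theorem cover24 : ∀ x : M, x * a24 = a24 * x → ∃ i, kel24 i = x := by decide +kernel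

/-- the images of all elements -/
def imgs (words : List (List ℕ)) (g : List M) : List M := words.map (evW g)

theorem words12 : imgs kWords12 (kGens12.map M.mk) = kList12.map M.mk ∧ kGens12.take 2 = [tauC, a12C] := by decide +kernel
theorem words24 : imgs kWords24 (kGens24.map M.mk) = kList24.map M.mk ∧ kGens24.take 2 = [tauC, a24C] := by decide +kernel
theorem words6 : imgs kWords6 (kGens6.map M.mk) = kList6.map M.mk ∧ kGens6.take 2 = [tauC, a6C] := by decide +kernel

theorem gens_len : kGens12.length = 4 ∧ kGens24.length = 3 ∧ kGens6.length = 5 := by decide +kernel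

theorem gens_ok12 : okEq ((kGens12.take 3).map M.mk) kEq12_0 = true ∧ okEq (kGens12.map M.mk) kEq12_1 = true ∧
    nodupB (kList12.map M.mk) = true := by decide +kernel

theorem gens_ok24 : okEq (kGens24.map M.mk) kEq24_0 = true ∧ nodupB (kList24.map M.mk) = true := by decide +kernel

theorem gens_ok6 : okEq ((kGens6.take 3).map M.mk) kEq6_0 = true ∧ okEq ((kGens6.take 4).map M.mk) kEq6_1 = true ∧
    okEq (kGens6.map M.mk) kEq6_2 = true ∧ nodupB (kList6.map M.mk) = true := by decide +kernel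

theorem none12 : ∀ i : Fin 16, okEq [a12, tau, kel12 i] kEq12_0 = true → ∀ j : Fin 16,
    okEq [a12, tau, kel12 i, kel12 j] kEq12_1 = true → nodupB (imgs kWords12 [a12, tau, kel12 i, kel12 j]) = false := by
  decide +kernel

theorem some24 : ∀ i : Fin 8, okEq [a24, tau, kel24 i] kEq24_0 = true → nodupB (imgs kWords24 [a24, tau, kel24 i]) = true →
    ∃ j : Fin 8, lab (kel24 j) = 2 ∧ (lab ((imgs kWords24 [a24, tau, kel24 i]).getD j.val 1) = 4 ∨
      lab ((imgs kWords24 [a24, tau, kel24 i]).getD j.val 1) = 1) := by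
  decide +kernel

/-- the map of a triple of images -/
def pmap (a b c : Fin 32) : ℕ := pack fun i => kidx ((imgs kWords6 [a6, tau, kel a, kel b, kel c]).getD i.val 1)

/-- index of the certificate -/
def cidx (a b c : Fin 32) : ℕ := get swapTab 9 ((a.val * 32 + b.val) * 32 + c.val)

/-- a swap is excluded or brought to a standard one -/
def certFine (p : ℕ) : ℕ × List ℕ → Bool
  | (0, w) =>
    let v := evalMaps (p :: baseList) w
    (act v (kidx tau) == kidx tau) && baseList.all fun b => !sameMap v b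
  | (1, [i, j]) => decide (i < 16) && decide (j < 16) && sameMap (comp (baseList.getD i 0) (comp p (baseList.getD j 0))) f0C
  | (2, [i, j]) => decide (i < 16) && decide (j < 16) && sameMap (comp (baseList.getD i 0) (comp p (baseList.getD j 0))) f1C
  | (3, [i]) => decide (i < 32) && (lab (kel (Fin.ofNat 32 i)) == 4) && (lab (kel (act p (Fin.ofNat 32 i))) == 3)
  | _ => false

/-- the certificate of a triple -/
def certAt (a b c : Fin 32) : Bool :=
  decide (0 < cidx a b c) && certFine (pmap a b c) (swapCert.getD (cidx a b c - 1) (9, []))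

theorem swaps6_0 : ∀ a' : Fin 4, okEq [a6, tau, kel (Fin.ofNat 32 (4 * 0 + a'.val))] kEq6_0 = true → ∀ b : Fin 32,
    okEq [a6, tau, kel (Fin.ofNat 32 (4 * 0 + a'.val)), kel b] kEq6_1 = true → ∀ c : Fin 32,
    okEq [a6, tau, kel (Fin.ofNat 32 (4 * 0 + a'.val)), kel b, kel c] kEq6_2 = true →
    nodupB (imgs kWords6 [a6, tau, kel (Fin.ofNat 32 (4 * 0 + a'.val)), kel b, kel c]) = true →
    certAt (Fin.ofNat 32 (4 * 0 + a'.val)) b c = true := by
  decide +kernel

theorem swaps6_1 : ∀ a' : Fin 4, okEq [a6, tau, kel (Fin.ofNat 32 (4 * 1 + a'.val))] kEq6_0 = true → ∀ b : Fin 32,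
    okEq [a6, tau, kel (Fin.ofNat 32 (4 * 1 + a'.val)), kel b] kEq6_1 = true → ∀ c : Fin 32,
    okEq [a6, tau, kel (Fin.ofNat 32 (4 * 1 + a'.val)), kel b, kel c] kEq6_2 = true →
    nodupB (imgs kWords6 [a6, tau, kel (Fin.ofNat 32 (4 * 1 + a'.val)), kel b, kel c]) = true →
    certAt (Fin.ofNat 32 (4 * 1 + a'.val)) b c = true := by
  decide +kernel

theorem swaps6_2 : ∀ a' : Fin 4, okEq [a6, tau, kel (Fin.ofNat 32 (4 * 2 + a'.val))] kEq6_0 = true → ∀ b : Fin 32,
    okEq [a6, tau, kel (Fin.ofNat 32 (4 * 2 + a'.val)), kel b] kEq6_1 = true → ∀ c : Fin 32,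
    okEq [a6, tau, kel (Fin.ofNat 32 (4 * 2 + a'.val)), kel b, kel c] kEq6_2 = true →
    nodupB (imgs kWords6 [a6, tau, kel (Fin.ofNat 32 (4 * 2 + a'.val)), kel b, kel c]) = true →
    certAt (Fin.ofNat 32 (4 * 2 + a'.val)) b c = true := by
  decide +kernel

theorem swaps6_3 : ∀ a' : Fin 4, okEq [a6, tau, kel (Fin.ofNat 32 (4 * 3 + a'.val))] kEq6_0 = true → ∀ b : Fin 32,
    okEq [a6, tau, kel (Fin.ofNat 32 (4 * 3 + a'.val)), kel b] kEq6_1 = true → ∀ c : Fin 32,
    okEq [a6, tau, kel (Fin.ofNat 32 (4 * 3 + a'.val)), kel b, kel c] kEq6_2 = true →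
    nodupB (imgs kWords6 [a6, tau, kel (Fin.ofNat 32 (4 * 3 + a'.val)), kel b, kel c]) = true →
    certAt (Fin.ofNat 32 (4 * 3 + a'.val)) b c = true := by
  decide +kernel

theorem swaps6_4 : ∀ a' : Fin 4, okEq [a6, tau, kel (Fin.ofNat 32 (4 * 4 + a'.val))] kEq6_0 = true → ∀ b : Fin 32,
    okEq [a6, tau, kel (Fin.ofNat 32 (4 * 4 + a'.val)), kel b] kEq6_1 = true → ∀ c : Fin 32,
    okEq [a6, tau, kel (Fin.ofNat 32 (4 * 4 + a'.val)), kel b, kel c] kEq6_2 = true →
    nodupB (imgs kWords6 [a6, tau, kel (Fin.ofNat 32 (4 * 4 + a'.val)), kel b, kel c]) = true →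
    certAt (Fin.ofNat 32 (4 * 4 + a'.val)) b c = true := by
  decide +kernel

theorem swaps6_5 : ∀ a' : Fin 4, okEq [a6, tau, kel (Fin.ofNat 32 (4 * 5 + a'.val))] kEq6_0 = true → ∀ b : Fin 32,
    okEq [a6, tau, kel (Fin.ofNat 32 (4 * 5 + a'.val)), kel b] kEq6_1 = true → ∀ c : Fin 32,
    okEq [a6, tau, kel (Fin.ofNat 32 (4 * 5 + a'.val)), kel b, kel c] kEq6_2 = true →
    nodupB (imgs kWords6 [a6, tau, kel (Fin.ofNat 32 (4 * 5 + a'.val)), kel b, kel c]) = true →
    certAt (Fin.ofNat 32 (4 * 5 + a'.val)) b c = true := by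
  decide +kernel

theorem swaps6_6 : ∀ a' : Fin 4, okEq [a6, tau, kel (Fin.ofNat 32 (4 * 6 + a'.val))] kEq6_0 = true → ∀ b : Fin 32,
    okEq [a6, tau, kel (Fin.ofNat 32 (4 * 6 + a'.val)), kel b] kEq6_1 = true → ∀ c : Fin 32,
    okEq [a6, tau, kel (Fin.ofNat 32 (4 * 6 + a'.val)), kel b, kel c] kEq6_2 = true →
    nodupB (imgs kWords6 [a6, tau, kel (Fin.ofNat 32 (4 * 6 + a'.val)), kel b, kel c]) = true →
    certAt (Fin.ofNat 32 (4 * 6 + a'.val)) b c = true := by
  decide +kernel

theorem swaps6_7 : ∀ a' : Fin 4, okEq [a6, tau, kel (Fin.ofNat 32 (4 * 7 + a'.val))] kEq6_0 = true → ∀ b : Fin 32,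
    okEq [a6, tau, kel (Fin.ofNat 32 (4 * 7 + a'.val)), kel b] kEq6_1 = true → ∀ c : Fin 32,
    okEq [a6, tau, kel (Fin.ofNat 32 (4 * 7 + a'.val)), kel b, kel c] kEq6_2 = true →
    nodupB (imgs kWords6 [a6, tau, kel (Fin.ofNat 32 (4 * 7 + a'.val)), kel b, kel c]) = true →
    certAt (Fin.ofNat 32 (4 * 7 + a'.val)) b c = true := by
  decide +kernel

theorem swaps6 : ∀ a : Fin 32, okEq [a6, tau, kel a] kEq6_0 = true → ∀ b : Fin 32,
    okEq [a6, tau, kel a, kel b] kEq6_1 = true → ∀ c : Fin 32, okEq [a6, tau, kel a, kel b, kel c] kEq6_2 = true →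
    nodupB (imgs kWords6 [a6, tau, kel a, kel b, kel c]) = true → certAt a b c = true := by
  intro a
  have e : a = Fin.ofNat 32 (4 * (a.val / 4) + (⟨a.val % 4, Nat.mod_lt _ (by norm_num)⟩ : Fin 4).val) := by
    apply Fin.ext
    simp only [Fin.ofNat]
    omega
  have hq : a.val / 4 < 8 := by omega
  rw [e]
  interval_cases a.val / 4
  · exact swaps6_0 _
  · exact swaps6_1 _
  · exact swaps6_2 _
  · exact swaps6_3 _
  · exact swaps6_4 _
  · exact swaps6_5 _
  · exact swaps6_6 _
  · exact swaps6_7 _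

theorem base_wit : ∀ i : Fin 16, ∀ k : Fin 32,
    M.mk (baseWit.getD i.val 0) * kel k * (M.mk (baseWit.getD i.val 0))⁻¹ = kel (act (baseList.getD i.val 0) k) := by
  decide +kernel

theorem base_len : baseList.length = 16 := by decide +kernel

/-- the action of an element normalising the centraliser of the pair -/
def normMap (m : M) : ℕ := pack fun k => kidx (m * kel k * m⁻¹)

theorem normalisers : ∀ m : M, (∀ k : Fin 32, inK (m * kel k * m⁻¹) = true) → baseList.any (sameMap (normMap m)) = true := by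
  decide +kernel

/-- the twist -/
def alpha (x : M) : M := M.mk (get alphaTab 8 x.val)
/-- its inverse -/
def alphaInv (x : M) : M := M.mk (get alphaInvTab 8 x.val)

theorem alpha_mul : ∀ x y : M, alpha (x * y) = alpha x * alpha y := by decide +kernel

theorem alpha_inv : ∀ x : M, alphaInv (alpha x) = x ∧ alpha (alphaInv x) = x := by decide +kernel

theorem alpha_fix : alpha tau = tau ∧ alpha a6 = a6 ∧ ∀ k : Fin 32, inK (alpha (kel k)) = true := by decide +kernel

/-- the other standard swap, twisted -/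
def twisted : ℕ := pack fun i => kidx (alphaInv (kel (act f1C (kidx (alpha (kel i))))))

theorem twisted_std : sameMap (comp (baseList.getD (twistWit.getD 0 16) 0) (comp twisted (baseList.getD (twistWit.getD 1 16) 0))) f0C = true := by
  decide +kernel

end Cfsg.Lib.M12Cent
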