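import Cfsg.Agent.M12Cent.Fusion

/-!
The swap of the involution and a representative of the class of length six is standard.
-/

set_option autoImplicit false
set_option linter.unusedSectionVars false
set_option maxRecDepth 10000

namespace Cfsg.Lib.M12Cent

open Subgroup

theorem kel_eq (i : Fin 32) : kel i = evW (kGens6.map M.mk) (kWords6.getD i.val []) := by
  have h : ∀ i : Fin 32, kel i = evW (kGens6.map M.mk) (kWords6.getD i.val []) := by decide +kernel
  exact h i

theorem kel24_eq : ∀ i : Fin 8, kel24 i = evW (kGens24.map M.mk) (kWords24.getD i.val []) := by decide +kernel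

theorem imgs_getD {ws : List (List ℕ)} {g : List M} {i : ℕ} (h : i < ws.length) :
    (imgs ws g).getD i 1 = evW g (ws.getD i []) := by
  rw [imgs, List.getD_eq_getElem _ _ (by simpa using h), List.getD_eq_getElem _ _ h, List.getElem_map]

theorem lab_kel24 : ∀ j : Fin 8, lab (kel24 j) = 2 → kel24 j * kel24 j = 1 ∧ kel24 j ≠ 1 := by decide +kernel

theorem lab_zero : ∀ x : M, lab x ≠ 0 → x * x = 1 ∧ x ≠ 1 := by decide +kernel

variable {G : Type*} [Group G] [Finite G]

namespace Setting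

variable (S : Setting G)

/-- realised by conjugation -/
def A (c : ℕ) : Prop := ∃ n : G, ∀ i, n * S.φ (kel i) * n⁻¹ = S.φ (kel (act c i))

theorem A_id : S.A idCode := ⟨1, fun i => by rw [act_id]; simp⟩

theorem A_comp (c d : ℕ) (hc : S.A c) (hd : S.A d) : S.A (comp c d) := by
  obtain ⟨n, hn⟩ := hc
  obtain ⟨m, hm⟩ := hd
  exact ⟨n * m, fun i => by rw [act_comp, ← hn, ← hm]; group⟩

theorem A_congr {c d : ℕ} (h : sameMap c d = true) (hc : S.A c) : S.A d := by
  obtain ⟨n, hn⟩ := hc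
  exact ⟨n, fun i => by rw [hn, sameMap_iff.1 h i]⟩

theorem A_base {c : ℕ} (hc : c ∈ baseList) : S.A c := by
  obtain ⟨i, hi, rfl⟩ := List.getElem_of_mem hc
  refine ⟨S.φ (M.mk (baseWit.getD i 0)), fun k => ?_⟩
  have h := base_wit ⟨i, base_len ▸ hi⟩ k
  rw [List.getD_eq_getElem baseList _ hi] at h
  rw [← h, map_mul, map_mul, map_inv]

theorem A_base_getD {i : ℕ} (hi : i < 16) : S.A (baseList.getD i 0) := by
  rw [List.getD_eq_getElem _ _ (base_len.symm ▸ hi)]
  exact S.A_base (List.getElem_mem _)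

/-- a realised map fixing the involution is one of the base maps -/
theorem A_fix {c : ℕ} (hc : S.A c) (h : act c (kidx tau) = kidx tau) : ∃ b ∈ baseList, sameMap c b = true := by
  obtain ⟨n, hn⟩ := hc
  have ht : n * S.t = S.t * n := by
    have := hn (kidx tau)
    rw [h, kidx_tau, S.map_tau] at this
    exact mul_inv_eq_iff_eq_mul.1 this
  obtain ⟨m, hm⟩ := S.mem_iff.1 ht
  have hk : ∀ k, m * kel k * m⁻¹ = kel (act c k) := fun k => S.inj (by
    rw [map_mul, map_mul, map_inv, hm]; exact hn k)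
  obtain ⟨b, hb, hb'⟩ := List.any_eq_true.1 (normalisers m fun k => by rw [hk]; exact (kel_spec _).1)
  refine ⟨b, hb, sameMap_iff.2 fun i => ?_⟩
  rw [← sameMap_iff.1 hb' i, normMap, act_pack, hk, (kel_spec _).2]

/-- the setting composed with the outer automorphism of the model -/
def twist : Setting G where
  t := S.t
  φ := S.φ.comp { toFun := alpha, map_one' := by decide +kernel, map_mul' := alpha_mul }
  inj := S.inj.comp (fun x y e => by
    have := congrArg alphaInv (show alpha x = alpha y from e)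
    rwa [(alpha_inv x).1, (alpha_inv y).1] at this)
  range_eq := by
    rw [← S.range_eq]
    refine le_antisymm ?_ ?_
    · rintro _ ⟨x, rfl⟩; exact ⟨alpha x, rfl⟩
    · rintro _ ⟨x, rfl⟩; exact ⟨alphaInv x, congrArg S.φ (alpha_inv x).2⟩
  map_tau := by
    show S.φ (alpha tau) = S.t
    rw [alpha_fix.1, S.map_tau]
  noncomm := S.noncomm

theorem twist_A (h : S.A f1C) : S.twist.A f0C := by
  have hb : ∀ k, k < 2 → twistWit.getD k 16 < 16 := by decide +kernel
  have hq : S.twist.A twisted := by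
    obtain ⟨n, hn⟩ := h
    refine ⟨n, fun i => ?_⟩
    show n * S.φ (alpha (kel i)) * n⁻¹ = S.φ (alpha (kel (act twisted i)))
    rw [twisted, act_pack, kel_kidx (twist_in _), (alpha_inv _).2]
    conv_lhs => rw [← kel_kidx (alpha_fix.2.2 i)]
    exact hn _
  exact S.twist.A_congr twisted_std (S.twist.A_comp _ _ (S.twist.A_base_getD (hb 0 (by norm_num)))
    (S.twist.A_comp _ _ hq (S.twist.A_base_getD (hb 1 (by norm_num)))))

theorem a6_cases (hT : S.IsT (S.φ a6)) :
    (∃ S' : Setting G, S'.t = S.t ∧ S'.A f0C) ∨ IsConj (S.φ a24) (S.φ a12) := by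
  obtain ⟨g, hg⟩ := S.exists_swap (Or.inl rfl) hT
  set a0 := M.mk (kGens6.getD 2 0)
  set b0 := M.mk (kGens6.getD 3 0)
  set c0 := M.mk (kGens6.getD 4 0)
  have hga : ∀ k, k ≤ 5 → ∀ x ∈ (kGens6.take k).map M.mk, x * a6 = a6 * x := fun k _ x hx =>
    kgens_cent.2.2 x (by rw [List.map_take] at hx; exact List.mem_of_mem_take hx)
  obtain ⟨f, hf, f1, f2, hw5⟩ := S.swap_images hg kgens_cent.2.2
  have hw : ∀ k, k ≤ 5 → ∀ w, S.φ (evW (((kGens6.take k).map M.mk).map f) w) =
      g * S.φ (evW ((kGens6.take k).map M.mk) w) * g⁻¹ := fun k hk w => by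
    obtain ⟨f', hf', -, -, hw'⟩ := S.swap_images hg (hga k hk)
    rw [← hw' w]
    congr 2
    refine List.map_congr_left fun x hx => S.inj ?_
    rw [(hf _ (hga k hk x hx)).2, (hf' _ (hga k hk x hx)).2]
  have hin : ∀ x, x * a6 = a6 * x → inK (f x) = true := fun x hx => (inK_iff _).2 (hf x hx).1
  have hc0 : ∀ x ∈ [a0, b0, c0], x * a6 = a6 * x := fun x hx => kgens_cent.2.2 x (by
    rw [kg6]; exact List.mem_cons_of_mem _ (List.mem_cons_of_mem _ hx))
  obtain ⟨a, ha⟩ : ∃ a, kel a = f a0 := ⟨_, kel_kidx (hin a0 (hc0 a0 (by simp)))⟩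
  obtain ⟨b, hb⟩ : ∃ b, kel b = f b0 := ⟨_, kel_kidx (hin b0 (hc0 b0 (by simp)))⟩
  obtain ⟨c, hc⟩ : ∃ c, kel c = f c0 := ⟨_, kel_kidx (hin c0 (hc0 c0 (by simp)))⟩
  have e3 : ((kGens6.take 3).map M.mk).map f = [a6, tau, kel a] := by
    rw [List.map_take, kg6, ha]; simp [f1, f2, a0]
  have e4 : ((kGens6.take 4).map M.mk).map f = [a6, tau, kel a, kel b] := by
    rw [List.map_take, kg6, ha, hb]; simp [f1, f2, a0, b0]
  have e5 : (kGens6.map M.mk).map f = [a6, tau, kel a, kel b, kel c] := by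
    rw [kg6, ha, hb, hc]; simp [f1, f2, a0, b0, c0]
  have h3 := hw 3 (by norm_num)
  have h4 := hw 4 (by norm_num)
  rw [e3] at h3
  rw [e4] at h4
  rw [e5] at hw5
  have hcert := swaps6 a (S.okEq_images h3 gens_ok6.1) b (S.okEq_images h4 gens_ok6.2.1) c
    (S.okEq_images hw5 gens_ok6.2.2.1) (S.nodup_images hw5 (by rw [words6.1]; exact gens_ok6.2.2.2))
  set p := pmap a b c with hp
  have hAp : S.A p := by
    refine ⟨g, fun i => ?_⟩
    have hiw : i.val < kWords6.length := by rw [kWords6_len.1]; exact i.isLt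
    have himg : inK (evW [a6, tau, kel a, kel b, kel c] (kWords6.getD i.val [])) = true := (inK_iff _).2 (S.inj (by
      rw [map_mul, map_mul, hw5, ← kel_eq]
      have hc' := (inK_iff _).1 (kel_spec i).1
      calc g * S.φ (kel i) * g⁻¹ * S.φ a6 = g * (S.φ (kel i) * S.t) * g⁻¹ := by rw [← hg.1]; group
        _ = g * (S.t * S.φ (kel i)) * g⁻¹ := by rw [S.φ_comm]
        _ = g * S.t * g⁻¹ * (g * S.φ (kel i) * g⁻¹) := by group
        _ = _ := by rw [hg.1]))
    rw [hp, pmap, act_pack, imgs_getD hiw, kel_kidx himg, hw5, ← kel_eq]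
  simp only [certAt, Bool.and_eq_true, decide_eq_true_eq] at hcert
  obtain ⟨-, hfine⟩ := hcert
  rw [← hp] at hfine
  generalize swapCert.getD (cidx a b c - 1) (9, []) = e at hfine
  obtain ⟨k, w⟩ := e
  unfold certFine at hfine
  split at hfine
  · next w' heq =>
    simp only [Bool.and_eq_true, beq_iff_eq, List.all_eq_true, Bool.not_eq_true'] at hfine
    obtain ⟨h1, h2⟩ := hfine
    have hv := evalMaps_mem (P := S.A) S.A_id S.A_comp (gens := p :: baseList) (fun x hx => by
      rcases List.mem_cons.1 hx with rfl | hx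
      · exact hAp
      · exact S.A_base hx) w'
    obtain ⟨b', hb', hsame⟩ := S.A_fix hv h1
    rw [h2 b' hb'] at hsame
    exact absurd hsame Bool.false_ne_true
  · next i j heq =>
    simp only [Bool.and_eq_true, decide_eq_true_eq] at hfine
    exact Or.inl ⟨S, rfl, S.A_congr hfine.2 (S.A_comp _ _ (S.A_base_getD hfine.1.1) (S.A_comp _ _ hAp (S.A_base_getD hfine.1.2)))⟩
  · next i j heq =>
    simp only [Bool.and_eq_true, decide_eq_true_eq] at hfine
    exact Or.inl ⟨S.twist, rfl, S.twist_A (S.A_congr hfine.2 (S.A_comp _ _ (S.A_base_getD hfine.1.1) (S.A_comp _ _ hAp (S.A_base_getD hfine.1.2))))⟩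
  · next i heq =>
    simp only [Bool.and_eq_true, decide_eq_true_eq, beq_iff_eq] at hfine
    right
    obtain ⟨⟨-, h4'⟩, h3'⟩ := hfine
    obtain ⟨n, hn⟩ := hAp
    have hconj := (isConj_iff.2 ⟨n, hn (Fin.ofNat 32 i)⟩ : IsConj (S.φ (kel (Fin.ofNat 32 i))) (S.φ (kel (act p (Fin.ofNat 32 i)))))
    obtain ⟨x1, x2⟩ := lab_zero (kel (Fin.ofNat 32 i)) (by omega)
    obtain ⟨y1, y2⟩ := lab_zero (kel (act p (Fin.ofNat 32 i))) (by omega)
    have l1 := S.label_conj _ x1 x2
    have l2 := S.label_conj _ y1 y2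
    rw [h4'] at l1
    rw [h3'] at l2
    exact (l1.symm.trans hconj).trans l2
  · simp at hfine

theorem a24_a6 (hT : S.IsT (S.φ a24)) : S.IsT (S.φ a6) := by
  obtain ⟨g, hg⟩ := S.exists_swap (Or.inr (Or.inr rfl)) hT
  obtain ⟨f, hf, f1, f2, hw⟩ := S.swap_images hg kgens_cent.2.1
  have hc := kgens_cent.2.1 (M.mk (kGens24.getD 2 0)) (by rw [kg24]; simp)
  obtain ⟨i, hi⟩ := cover24 _ (hf _ hc).1
  have him : (kGens24.map M.mk).map f = [a24, tau, kel24 i] := by rw [kg24, hi]; simp [f1, f2]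
  rw [him] at hw
  obtain ⟨j, hj, hlab⟩ := some24 i (S.okEq_images hw gens_ok24.1)
    (S.nodup_images hw (by rw [words24.1]; exact gens_ok24.2))
  have hjw : j.val < kWords24.length := by rw [kWords6_len.2.2.1]; exact j.isLt
  rw [imgs_getD hjw] at hlab
  set y := evW [a24, tau, kel24 i] (kWords24.getD j.val []) with hy
  have hxy : IsConj (S.φ (kel24 j)) (S.φ y) := isConj_iff.2 ⟨g, by rw [hy, hw, kel24_eq]⟩
  obtain ⟨x1, x2⟩ := lab_kel24 j hj
  obtain ⟨y1, y2⟩ := lab_zero y (by rcases hlab with e | e <;> omega)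
  have l1 := S.label_conj _ x1 x2
  have l2 := S.label_conj _ y1 y2
  rw [hj] at l1
  have h6 : IsConj (S.φ a6) (S.φ (repOf (lab y))) := (l1.symm.trans hxy).trans l2
  rcases hlab with e | e <;> rw [e] at h6
  · exact hT.trans h6.symm
  · refine (?_ : IsConj S.t (S.φ a6))
    rw [show repOf 1 = tau from rfl, S.map_tau] at h6
    exact h6.symm

theorem isT_a6 [IsSimpleGroup G] : S.IsT (S.φ a6) := by
  obtain ⟨m, h1, h2, h3, hT⟩ := S.exists_other
  obtain ⟨hl, -⟩ := (lab_invol m h1 h2).resolve_left fun e => h3 e.2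
  have h := hT.trans (S.label_conj m h1 h2)
  rcases hl with e | e | e <;> rw [e] at h
  · exact h
  · exact absurd h S.a12_not_T
  · exact S.a24_a6 h

theorem isT_ne_a12 {x : G} (hx : IsConj x (S.φ a12)) : ¬ S.IsT x := fun h => S.a12_not_T (h.trans hx)

theorem dichotomy [IsSimpleGroup G] :
    (∃ S' : Setting G, S'.t = S.t ∧ S'.A f0C) ∨ (¬ S.IsT (S.φ a24) ∧ IsConj (S.φ a24) (S.φ a12)) := by
  rcases S.a6_cases S.isT_a6 with h | h
  · exact Or.inl h
  · exact Or.inr ⟨S.isT_ne_a12 h, h⟩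

end Setting

end Cfsg.Lib.M12Cent
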