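import Mathlib

/-!
Checked logs of coset enumerations: every fact `(u, l, v)` follows from earlier facts around a cycle.
-/

set_option autoImplicit false

namespace Cfsg.Lib.M12Cent

/-- a binary tree of packed natural numbers -/
inductive PT
  | leaf (v : ℕ)
  | node (l r : PT)

/-- leaf of a tree -/
def PT.get : PT → ℕ → ℕ → ℕ
  | .leaf v, _, _ => v
  | .node l r, d, i => match d with
    | 0 => 0
    | d + 1 => if (i >>> d) % 2 = 0 then l.get d i else r.get d i

/-- field of a tree with 64 fields a leaf -/
def fld (t : PT) (d w i : ℕ) : ℕ := (t.get d (i / 64) >>> (w * (i % 64))) % 2 ^ w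

/-- a log -/
structure Log where
  ng : ℕ
  iv : List ℕ
  depth : ℕ
  m : ℕ
  fct : PT
  par : PT
  pth : PT
  rels : List (List ℕ)
  subs : List ℕ

namespace Log

variable (C : Log)

/-- inverse letter; the letter `ng` is the identity -/
def inv (l : ℕ) : ℕ := if l < C.ng then C.iv.getD l 0 else l
/-- the code of a fact -/
def code (i : ℕ) : ℕ := fld C.fct C.depth 96 i
/-- source -/
def su (i : ℕ) : ℕ := C.code i % 2 ^ 16
/-- target -/
def sv (i : ℕ) : ℕ := C.code i / 2 ^ 16 % 2 ^ 16
/-- letter -/
def sl (i : ℕ) : ℕ := C.code i / 2 ^ 32 % 2 ^ 4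
/-- kind -/
def kd (i : ℕ) : ℕ := C.code i / 2 ^ 36 % 2 ^ 4
/-- relator -/
def rk (i : ℕ) : ℕ := C.code i / 2 ^ 40 % 2 ^ 12
/-- rotation -/
def rq (i : ℕ) : ℕ := C.code i / 2 ^ 52 % 2 ^ 8
/-- path offset -/
def po (i : ℕ) : ℕ := C.code i / 2 ^ 60 % 2 ^ 24
/-- path length -/
def pl (i : ℕ) : ℕ := C.code i / 2 ^ 84 % 2 ^ 12

/-- the path of a fact -/
def path (i : ℕ) : List ℕ := (List.range (C.pl i)).map fun j => fld C.pth C.depth 20 (C.po i + j)

/-- follow a path through facts given before the bound, collecting the letters -/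
def follow (bound : ℕ) : List ℕ → ℕ → Option (ℕ × List ℕ)
  | [], c => some (c, [])
  | e :: es, c =>
    if e / 2 < bound then
      if e % 2 = 0 then
        if C.su (e / 2) = c then
          (follow bound es (C.sv (e / 2))).map fun r =>
            (r.1, if C.sl (e / 2) < C.ng then C.sl (e / 2) :: r.2 else r.2)
        else none
      else
        if C.sv (e / 2) = c then
          (follow bound es (C.su (e / 2))).map fun r =>
            (r.1, if C.sl (e / 2) < C.ng then C.inv (C.sl (e / 2)) :: r.2 else r.2)
        else none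
    else none

/-- the inverse word -/
def winv (w : List ℕ) : List ℕ := w.reverse.map C.inv

/-- the cycle of a fact: the inverse of its letter and the letters of its path -/
def cyc (i : ℕ) (e : List ℕ) : List ℕ := if C.sl i < C.ng then C.inv (C.sl i) :: e else e

/-- a word which is freely trivial of length at most two -/
def free : List ℕ → Bool
  | [] => true
  | [a, b] => decide (a < C.ng) && b == C.inv a
  | _ => false

/-- the relator or its inverse, rotated -/
def rot (i : ℕ) : List ℕ :=
  let r := C.rels.getD (C.rk i / 2) []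
  let r' := if C.rk i % 2 = 0 then r else C.winv r
  r'.drop (C.rq i) ++ r'.take (C.rq i)

/-- a fact follows from earlier ones -/
def factOK (i : ℕ) : Bool :=
  match C.kd i with
  | 0 => decide (C.su i < C.sv i) && decide (C.sl i < C.ng) &&
      fld C.par C.depth 20 (C.sv i) == C.su i + 2 ^ 16 * C.sl i
  | 1 => match C.follow i (C.path i) (C.su i) with
    | some (v, e) => v == C.sv i && C.free (C.cyc i e)
    | none => false
  | 2 => match C.follow i (C.path i) (C.su i) with
    | some (v, e) => v == C.sv i && decide (C.rk i / 2 < C.rels.length) && C.cyc i e == C.rot i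
    | none => false
  | _ => C.su i == 0 && C.sv i == 0 && C.subs.contains (C.sl i)

/-- a block of facts -/
def factsOK (a len : ℕ) : Bool := (List.range' a len).all C.factOK

theorem factsOK_cat {a b c : ℕ} (h1 : C.factsOK a b = true) (h2 : C.factsOK (a + b) c = true) :
    C.factsOK a (b + c) = true := by
  rw [factsOK] at *
  rw [← List.range'_append_1, List.all_append, h1, h2]
  rfl

theorem factsOK_cat0 {b c n : ℕ} (h1 : C.factsOK 0 b = true) (h2 : C.factsOK b c = true) (hn : b + c = n) :
    C.factsOK 0 n = true :=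
  hn ▸ C.factsOK_cat h1 (by rw [Nat.zero_add]; exact h2)

/-- all relators use letters of the log, and the letters are closed under inversion -/
def lettersOK : Bool :=
  (C.rels.all fun r => r.all fun l => decide (l < C.ng)) &&
    (List.range C.ng).all fun l => decide (C.inv l < C.ng)

variable {G : Type*} [Group G] (im : ℕ → G) (K : Subgroup G)

/-- value of a letter -/
def val (l : ℕ) : G := if l < C.ng then im l else 1

/-- value of a word -/
def wv (w : List ℕ) : G := (w.map (C.val im)).prod

/-- representative -/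
def rep (v : ℕ) : G :=
  if h : fld C.par C.depth 20 v % 2 ^ 16 < v then
    rep (fld C.par C.depth 20 v % 2 ^ 16) * C.val im (fld C.par C.depth 20 v / 2 ^ 16)
  else 1
  termination_by v
  decreasing_by exact h

/-- a fact is true -/
def Holds (i : ℕ) : Prop := C.rep im (C.su i) * C.val im (C.sl i) * (C.rep im (C.sv i))⁻¹ ∈ K

/-- the hypotheses -/
structure Sound : Prop where
  letters : C.lettersOK = true
  inv_spec : ∀ l < C.ng, im (C.inv l) = (im l)⁻¹
  rel : ∀ r ∈ C.rels, C.wv im r = 1
  sub : ∀ l ∈ C.subs, C.val im l ∈ K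

variable {C im K}

theorem rep_zero : C.rep im 0 = 1 := by
  rw [rep, dif_neg (Nat.not_lt_zero _)]

theorem Sound.inv_lt (hS : C.Sound im K) {l : ℕ} (hl : l < C.ng) : C.inv l < C.ng := by
  have h := hS.letters
  simp only [lettersOK, Bool.and_eq_true, List.all_eq_true, List.mem_range, decide_eq_true_eq] at h
  exact h.2 l hl

theorem Sound.val_inv (hS : C.Sound im K) (l : ℕ) : C.val im (C.inv l) = (C.val im l)⁻¹ := by
  by_cases hl : l < C.ng
  · rw [val, val, if_pos (hS.inv_lt hl), if_pos hl, hS.inv_spec l hl]
  · simp [val, Log.inv, hl]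

theorem Sound.wv_winv (hS : C.Sound im K) : ∀ w : List ℕ, C.wv im (C.winv w) = (C.wv im w)⁻¹
  | [] => by simp [wv, winv]
  | a :: w => by
    have ih := Sound.wv_winv hS w
    simp only [wv, winv] at ih ⊢
    rw [List.reverse_cons, List.map_append, List.map_append, List.prod_append, ih]
    simp [hS.val_inv]

theorem Sound.follow_holds (hS : C.Sound im K) {bound : ℕ} (h : ∀ i < bound, C.Holds im K i) :
    ∀ (es : List ℕ) (c d : ℕ) (w : List ℕ), C.follow bound es c = some (d, w) →
      C.rep im c * C.wv im w * (C.rep im d)⁻¹ ∈ K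
  | [], c, d, w, hf => by
    simp only [follow, Option.some.injEq, Prod.mk.injEq] at hf
    obtain ⟨rfl, rfl⟩ := hf
    simp [wv, K.one_mem]
  | e :: es, c, d, w, hf => by
    simp only [follow] at hf
    by_cases hb : e / 2 < bound
    swap; · rw [if_neg hb] at hf; simp at hf
    rw [if_pos hb] at hf
    have h1 := h _ hb
    by_cases he : e % 2 = 0
    · rw [if_pos he] at hf
      by_cases hc : C.su (e / 2) = c
      swap; · rw [if_neg hc] at hf; simp at hf
      rw [if_pos hc] at hf
      obtain ⟨⟨d', w'⟩, hg, hr⟩ := Option.map_eq_some_iff.1 hf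
      obtain ⟨rfl, rfl⟩ := Prod.mk.injEq .. ▸ hr
      have h2 := Sound.follow_holds hS h es _ _ _ hg
      rw [Holds, hc] at h1
      have := K.mul_mem h1 h2
      by_cases hl : C.sl (e / 2) < C.ng
      · rw [if_pos hl]; convert this using 1; simp [wv, mul_assoc]
      · rw [if_neg hl]
        simp only [val, if_neg hl, mul_one] at this
        convert this using 1; simp [mul_assoc]
    · rw [if_neg he] at hf
      by_cases hc : C.sv (e / 2) = c
      swap; · rw [if_neg hc] at hf; simp at hf
      rw [if_pos hc] at hf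
      obtain ⟨⟨d', w'⟩, hg, hr⟩ := Option.map_eq_some_iff.1 hf
      obtain ⟨rfl, rfl⟩ := Prod.mk.injEq .. ▸ hr
      have h2 := Sound.follow_holds hS h es _ _ _ hg
      rw [Holds, hc] at h1
      have := K.mul_mem (K.inv_mem h1) h2
      by_cases hl : C.sl (e / 2) < C.ng
      · rw [if_pos hl]; convert this using 1; simp [wv, hS.val_inv, mul_assoc]
      · rw [if_neg hl]
        simp only [val, if_neg hl, mul_one] at this
        convert this using 1; simp [mul_assoc]

theorem Sound.cyc_spec (hS : C.Sound im K) {i : ℕ} {e : List ℕ} (h : C.wv im (C.cyc i e) = 1) :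
    C.wv im e = C.val im (C.sl i) := by
  unfold cyc at h
  split_ifs at h with hl
  · simp only [wv, List.map_cons, List.prod_cons, hS.val_inv] at h
    exact inv_mul_eq_one.1 h |>.symm
  · rw [h, val, if_neg hl]

theorem Sound.fact_holds (hS : C.Sound im K) {i : ℕ} (h : ∀ j < i, C.Holds im K j) (hi : C.factOK i = true) :
    C.Holds im K i := by
  unfold factOK at hi
  split at hi
  · simp only [Bool.and_eq_true, decide_eq_true_eq, beq_iff_eq] at hi
    obtain ⟨⟨huv, hl⟩, hp⟩ := hi
    have hu : C.su i < 2 ^ 16 := Nat.mod_lt _ (by norm_num)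
    have e1 : fld C.par C.depth 20 (C.sv i) % 2 ^ 16 = C.su i := by rw [hp]; omega
    have e2 : fld C.par C.depth 20 (C.sv i) / 2 ^ 16 = C.sl i := by rw [hp]; omega
    have e : C.rep im (C.sv i) = C.rep im (C.su i) * C.val im (C.sl i) := by
      conv_lhs => rw [rep]
      rw [dif_pos (by rw [e1]; exact huv), e1, e2]
    rw [Holds, e, mul_inv_cancel]
    exact K.one_mem
  · split at hi
    · next v e hf =>
      simp only [Bool.and_eq_true, beq_iff_eq] at hi
      obtain ⟨rfl, hfree⟩ := hi
      have hw : C.wv im (C.cyc i e) = 1 := by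
        revert hfree
        generalize C.cyc i e = w
        rcases w with _ | ⟨a, _ | ⟨b, _ | ⟨c, w⟩⟩⟩ <;> simp only [free, Bool.false_eq_true, false_imp_iff] <;> intro hfree
        · simp [wv]
        · simp only [Bool.and_eq_true, beq_iff_eq] at hfree
          simp [wv, hfree.2, hS.val_inv]
      have := hS.follow_holds h _ _ _ _ hf
      rwa [hS.cyc_spec hw] at this
    · simp at hi
  · split at hi
    · next v e hf =>
      simp only [Bool.and_eq_true, beq_iff_eq, decide_eq_true_eq] at hi
      obtain ⟨⟨rfl, hk⟩, hrot⟩ := hi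
      have hr : C.wv im (C.rels.getD (C.rk i / 2) []) = 1 := by
        rw [List.getD_eq_getElem _ _ hk]
        exact hS.rel _ (List.getElem_mem hk)
      have hr' : ∀ r : List ℕ, C.wv im r = 1 → C.wv im (r.drop (C.rq i) ++ r.take (C.rq i)) = 1 := fun r h1 => by
        rw [← List.take_append_drop (C.rq i) r] at h1
        simp only [wv, List.map_append, List.prod_append] at h1 ⊢
        exact mul_eq_one_comm.1 h1
      have hw : C.wv im (C.cyc i e) = 1 := by
        rw [hrot, rot]
        apply hr'
        split_ifs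
        · exact hr
        · rw [hS.wv_winv, hr, inv_one]
      have := hS.follow_holds h _ _ _ _ hf
      rwa [hS.cyc_spec hw] at this
    · simp at hi
  · simp only [Bool.and_eq_true, beq_iff_eq, List.contains_iff_mem] at hi
    obtain ⟨⟨hu, hv⟩, hl⟩ := hi
    rw [Holds, hu, hv, rep_zero, one_mul, inv_one, mul_one]
    exact hS.sub _ hl

theorem Sound.all_hold (hS : C.Sound im K) (hf : C.factsOK 0 C.m = true) : ∀ i < C.m, C.Holds im K i := by
  intro i
  induction i using Nat.strong_induction_on with
  | _ i ih =>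
    intro hi
    exact hS.fact_holds (fun j hj => ih j hj (hj.trans hi))
      (List.all_eq_true.1 hf i (List.mem_range'_1.2 ⟨Nat.zero_le i, by omega⟩))

/-- the final table: for every row and letter a fact inside the rows -/
def closedOK (C : Log) (rows : List (ℕ × List ℕ)) : Bool :=
  (rows.map Prod.fst).contains 0 && rows.all fun r => decide (r.2.length = C.ng) &&
    (List.range C.ng).all fun l => decide (r.2.getD l C.m < C.m) && C.su (r.2.getD l C.m) == r.1 &&
      C.sl (r.2.getD l C.m) == l && (rows.map Prod.fst).contains (C.sv (r.2.getD l C.m))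

/-- the set of rows as a number -/
def rowMask (rows : List (ℕ × List ℕ)) : ℕ := rows.foldr (fun r a => a ||| 2 ^ r.1) 0

theorem mem_of_testBit : ∀ (rows : List (ℕ × List ℕ)) {c : ℕ}, (rowMask rows).testBit c = true →
    c ∈ rows.map Prod.fst
  | [], c, h => by simp [rowMask] at h
  | r :: rows, c, h => by
    have h' : (rowMask rows ||| 2 ^ r.1).testBit c = true := h
    rw [Nat.testBit_lor, Bool.or_eq_true, Nat.testBit_two_pow] at h'
    rcases h' with h' | h'
    · exact List.mem_cons_of_mem _ (mem_of_testBit rows h')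
    · simp only [decide_eq_true_eq] at h'
      subst h'
      exact List.mem_cons_self

/-- the final table, with the set of rows given as a number -/
def closedM (C : Log) (rows : List (ℕ × List ℕ)) (mask : ℕ) : Bool :=
  mask == rowMask rows && mask.testBit 0 && rows.all fun r => decide (r.2.length = C.ng) &&
    (List.range C.ng).all fun l => decide (r.2.getD l C.m < C.m) && C.su (r.2.getD l C.m) == r.1 &&
      C.sl (r.2.getD l C.m) == l && mask.testBit (C.sv (r.2.getD l C.m))

theorem closedOK_of_mask {C : Log} {rows : List (ℕ × List ℕ)} {mask : ℕ} (h : C.closedM rows mask = true) :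
    C.closedOK rows = true := by
  simp only [closedM, closedOK, Bool.and_eq_true, List.all_eq_true, beq_iff_eq, List.contains_iff_mem] at h ⊢
  obtain ⟨⟨rfl, h0⟩, hr⟩ := h
  refine ⟨mem_of_testBit rows h0, fun r hr' => ⟨(hr r hr').1, fun l hl => ?_⟩⟩
  obtain ⟨h1, h2⟩ := (hr r hr').2 l hl
  exact ⟨h1, mem_of_testBit rows h2⟩

theorem Sound.cover (hS : C.Sound im K) (hf : C.factsOK 0 C.m = true) {rows : List (ℕ × List ℕ)}
    (hc : C.closedOK rows = true) {g : G} (hg : g ∈ Subgroup.closure (im '' Set.Iio C.ng)) :
    ∃ c ∈ rows.map Prod.fst, g * (C.rep im c)⁻¹ ∈ K := by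
  have hold := hS.all_hold hf
  simp only [closedOK, Bool.and_eq_true, List.all_eq_true, List.mem_range, decide_eq_true_eq, beq_iff_eq,
    List.contains_iff_mem] at hc
  obtain ⟨h0, hrows⟩ := hc
  have step : ∀ c ∈ rows.map Prod.fst, ∀ l < C.ng, ∃ d ∈ rows.map Prod.fst,
      C.rep im c * im l * (C.rep im d)⁻¹ ∈ K := by
    intro c hc l hl
    obtain ⟨r, hr, rfl⟩ := List.mem_map.1 hc
    obtain ⟨⟨⟨h1, h2⟩, h3⟩, h4⟩ := (hrows r hr).2 l hl
    refine ⟨_, h4, ?_⟩
    have := hold _ h1
    rw [Holds, h2, h3] at this
    simpa [val, hl] using this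
  induction hg using Subgroup.closure_induction_right with
  | one => exact ⟨0, h0, by simp [rep_zero, K.one_mem]⟩
  | mul_right a b _ hb ih =>
    obtain ⟨l, hl, rfl⟩ := hb
    obtain ⟨c, hc, hac⟩ := ih
    obtain ⟨d, hd, hh⟩ := step c hc l hl
    exact ⟨d, hd, by convert K.mul_mem hac hh using 1; group⟩
  | mul_inv_cancel a b _ hb ih =>
    obtain ⟨l, hl, rfl⟩ := hb
    obtain ⟨c, hc, hac⟩ := ih
    rw [← hS.inv_spec l hl]
    obtain ⟨d, hd, hh⟩ := step c hc _ (hS.inv_lt hl)
    exact ⟨d, hd, by convert K.mul_mem hac hh using 1; group⟩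

theorem Sound.card_le (hS : C.Sound im K) (hf : C.factsOK 0 C.m = true) {rows : List (ℕ × List ℕ)}
    (hc : C.closedOK rows = true) [Finite K] {L : Subgroup G} (hL : L ≤ Subgroup.closure (im '' Set.Iio C.ng)) :
    Nat.card L ≤ rows.length * Nat.card K := by
  choose k hk hmem using fun g : L => hS.cover hf hc (hL g.2)
  let f : L → Fin rows.length × K := fun g =>
    (⟨(rows.map Prod.fst).idxOf (k g), by simpa using List.idxOf_lt_length_of_mem (hk g)⟩, ⟨_, hmem g⟩)
  have hfi : Function.Injective f := fun a b h => by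
    simp only [f, Prod.mk.injEq, Fin.mk.injEq, Subtype.mk.injEq] at h
    have e := (List.idxOf_inj (hk a)).1 h.1
    rw [e] at h
    exact Subtype.ext (mul_right_cancel h.2)
  refine (Nat.card_le_card_of_injective f hfi).trans ?_
  rw [Nat.card_prod, Nat.card_eq_fintype_card (α := Fin rows.length), Fintype.card_fin]

end Log

end Cfsg.Lib.M12Cent
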